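import Cfsg.Agent.H59.PrimComp
import Cfsg.Prelude.Def_Transfer

set_option autoImplicit false
set_option linter.style.haveILetI false

/-! More on primitive groups: affine case, centralizers of the components. -/

namespace Cfsg.Agent.H59

open scoped Pointwise
open MulAction

variable {G Ω : Type*} [Group G] [MulAction G Ω]

/-- An abelian transitive faithful group is regular. -/
theorem stabilizer_eq_bot_of_abelian [FaithfulSMul G Ω] (N : Subgroup G) (hN : IsMulCommutative N)
    [IsPretransitive N Ω] (a : Ω) : stabilizer N a = ⊥ := by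
  rw [eq_bot_iff]
  rintro ⟨x, hx⟩ hxa
  rw [Subgroup.mem_bot]
  apply Subtype.ext
  change x = 1
  exact eq_one_of_commute_transitive N x
    (fun k hk => Cfsg.Agent.Solv.comm_of_isMulCommutative hN hk hx) a hxa

/-- A faithful primitive group with a nontrivial abelian normal subgroup is affine. -/
theorem exists_affine [Finite G] [FaithfulSMul G Ω] (hprim : IsPreprimitive G Ω) (A : Subgroup G)
    (hA : A.Normal) (hAc : IsMulCommutative A) (hA1 : A ≠ ⊥) :
    ∃ (N : Subgroup G) (r : ℕ), r.Prime ∧ N.Normal ∧ N ≠ ⊥ ∧ Cfsg.IsElementaryAbelian r N ∧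
      IsPretransitive N Ω ∧ ∀ a : Ω, stabilizer N a = ⊥ := by
  obtain ⟨N, hN, hNA, hN1, hmin⟩ := Cfsg.Agent.Solv.exists_minimal_normal A hA hA1
  haveI := hN
  have hNc : IsMulCommutative N := Cfsg.Agent.Solv.isMulCommutative_of_le hNA hAc
  have hsol : Group.IsSolvable N := by
    letI : CommGroup N := { (inferInstance : Group N) with mul_comm := hNc.is_comm.comm }
    infer_instance
  obtain ⟨-, p, hp, hpe⟩ := Cfsg.Agent.Solv.minimal_normal_of_solvable N hsol hN1 hmin
  haveI := transitive_of_normal hprim N hN hN1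
  exact ⟨N, p, hp, hN, hN1, ⟨hNc, hpe⟩, inferInstance, stabilizer_eq_bot_of_abelian N hNc⟩

theorem inf_centralizer_of_simple {T : Subgroup G} (hs : IsSimpleGroup T)
    (hc : ¬ IsMulCommutative T) : T ⊓ Subgroup.centralizer (T : Set G) = ⊥ := by
  rcases hs.eq_bot_or_eq_top_of_normal (Subgroup.center T) inferInstance with h | h
  · rw [eq_bot_iff]
    rintro x ⟨hx, hxc⟩
    have : (⟨x, hx⟩ : T) ∈ Subgroup.center T := by
      rw [Subgroup.mem_center_iff]
      rintro ⟨y, hy⟩
      exact Subtype.ext (Subgroup.mem_centralizer_iff.mp hxc y hy)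
    rw [h, Subgroup.mem_bot] at this
    rw [Subgroup.mem_bot]
    exact congrArg Subtype.val this
  · exfalso
    apply hc
    refine ⟨⟨fun a b => ?_⟩⟩
    have : b ∈ Subgroup.center T := by rw [h]; trivial
    exact Subgroup.mem_center_iff.mp this a

theorem IsMinComp.exists_conj_ne {N T : Subgroup G} (h : IsMinComp N T) (hne : T ≠ N) :
    ∃ g : G, MulAut.conj g • T ≠ T ∧ MulAut.conj g • T ≤ Subgroup.centralizer (T : Set G) := by
  by_contra hcon
  push Not at hcon
  apply hne
  rw [← h.iSup_eq]
  apply le_antisymm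
  · have := le_iSup (fun g : G => MulAut.conj g • T) 1
    simpa using this
  · apply iSup_le
    intro g
    rcases h.conj_eq_or_comm g with h1 | h1
    · rw [h1]
    · by_contra hg
      apply hcon g
      · intro h2; exact hg h2.le
      · intro y hy
        rw [Subgroup.mem_centralizer_iff]
        intro x hx
        exact h1 x hx y hy

/-- A nonabelian simple group is not a `p`-group. -/
theorem not_isPGroup_of_simple {T : Type*} [Group T] [Finite T] (hs : IsSimpleGroup T)
    (hc : ¬ IsMulCommutative T) (p : ℕ) [Fact p.Prime] : ¬ IsPGroup p T := by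
  intro hp
  have hnil : Group.IsNilpotent T := hp.isNilpotent
  have hsol : Group.IsSolvable T := inferInstance
  apply hc
  have := (IsSimpleGroup.comm_iff_isSolvable (G := T)).mpr hsol
  exact ⟨⟨this⟩⟩

end Cfsg.Agent.H59
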