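import Mathlib

set_option autoImplicit false

namespace Cfsg.Agent.H59.CAbs

/-- in a subgroup of order 3 every element is `1`, `x` or `x⁻¹` -/
theorem three_cases {V : Type*} [Group V] (L : Subgroup V) (h3 : Nat.card L = 3) {x : V} (hx : x ∈ L) (hx1 : x ≠ 1)
    {y : V} (hy : y ∈ L) : y = 1 ∨ y = x ∨ y = x⁻¹ := by
  haveI : Finite L := Nat.finite_of_card_ne_zero (by rw [h3]; norm_num)
  haveI : Fact (Nat.Prime 3) := ⟨Nat.prime_three⟩
  have hmem : (⟨y, hy⟩ : L) ∈ Subgroup.zpowers (⟨x, hx⟩ : L) :=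
    mem_zpowers_of_prime_card h3 (by intro h; exact hx1 (congrArg Subtype.val h))
  obtain ⟨k, hk⟩ := Subgroup.mem_zpowers_iff.1 hmem
  have hk' : x ^ k = y := by
    have := congrArg Subtype.val hk
    simpa using this
  have hx3 : x ^ (3 : ℤ) = 1 := by
    have h := pow_card_eq_one' (x := (⟨x, hx⟩ : L))
    rw [h3] at h
    have := congrArg Subtype.val h
    simpa using this
  have hmod : x ^ k = x ^ (k % 3) := by
    conv_lhs => rw [← Int.emod_add_mul_ediv k 3, zpow_add, zpow_mul, hx3, one_zpow, mul_one]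
  have h0 : 0 ≤ k % 3 := Int.emod_nonneg _ (by norm_num)
  have h1 : k % 3 < 3 := Int.emod_lt_of_pos _ (by norm_num)
  have : k % 3 = 0 ∨ k % 3 = 1 ∨ k % 3 = 2 := by omega
  rcases this with h | h | h
  · left; rw [← hk', hmod, h]; simp
  · right; left; rw [← hk', hmod, h]; simp
  · right; right
    rw [← hk', hmod, h]
    apply eq_inv_of_mul_eq_one_left
    rw [← zpow_add_one]; exact hx3

theorem abs {V : Type*} [CommGroup V] (L : Subgroup V) (hL3 : Nat.card L = 3) (hLi : L.index = 3)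
    {N : Type*} [Group N] (φ : N → V →* V) (hmul : ∀ n m v, φ (n * m) v = φ n (φ m v)) (hone : ∀ v, φ 1 v = v)
    (hLN : ∀ n, ∀ l ∈ L, φ n l ∈ L) (e : V) (he3 : e ^ 3 = 1) (he1 : e ≠ 1) (hI : ∀ n, φ n e ≠ e⁻¹) :
    ∃ K : Subgroup V, e ∉ K ∧ ∀ n, φ n e * e⁻¹ ∈ K := by
  have hinj : ∀ n v, φ n v = 1 → v = 1 := by
    intro n v h
    have h2 := hmul n⁻¹ n v
    rw [inv_mul_cancel, hone, h, map_one] at h2
    exact h2
  by_cases heL : e ∈ L
  · refine ⟨⊥, by simpa using he1, ?_⟩
    intro n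
    rcases three_cases L hL3 heL he1 (hLN n e heL) with h | h | h
    · exact absurd (hinj n e h) he1
    · rw [h]; simp
    · exact absurd h (hI n)
  by_cases hall : ∀ n, φ n e * e⁻¹ ∈ L
  · exact ⟨L, heL, hall⟩
  push Not at hall
  obtain ⟨n0, hn0⟩ := hall
  -- dichotomy
  have hdich : ∀ n, φ n e * e⁻¹ ∈ L ∨ φ n e * e ∈ L := by
    intro n
    have hq : Nat.card (V ⧸ L) = 3 := hLi
    have hne : (e : V ⧸ L) ≠ 1 := by
      intro h; exact heL ((QuotientGroup.eq_one_iff e).1 h)
    have hc := three_cases (⊤ : Subgroup (V ⧸ L)) (by rw [Subgroup.card_top]; exact hq) (Subgroup.mem_top (e : V ⧸ L)) hne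
      (Subgroup.mem_top ((φ n e : V) : V ⧸ L))
    rcases hc with h | h | h
    · exfalso
      have h1 : φ n e ∈ L := (QuotientGroup.eq_one_iff _).1 h
      have h2 := hLN n⁻¹ _ h1
      rw [← hmul, inv_mul_cancel, hone] at h2
      exact heL h2
    · left
      apply (QuotientGroup.eq_one_iff _).1
      rw [QuotientGroup.mk_mul, QuotientGroup.mk_inv, h, mul_inv_cancel]
    · right
      apply (QuotientGroup.eq_one_iff _).1
      rw [QuotientGroup.mk_mul, h, inv_mul_cancel]
  have hl0 : φ n0 e * e ∈ L := (hdich n0).resolve_left hn0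
  obtain ⟨l, hl⟩ : ∃ l, l = φ n0 e * e := ⟨_, rfl⟩
  rw [← hl] at hl0
  have h0 : φ n0 e = e⁻¹ * l := by rw [hl, mul_comm (φ n0 e) e, inv_mul_cancel_left]
  have hl1 : l ≠ 1 := by
    intro h; apply hI n0; rw [h0, h, mul_one]
  have hl3 : l * l = l⁻¹ := by
    have h := three_cases L hL3 hl0 hl1 (L.mul_mem hl0 hl0)
    rcases h with h | h | h
    · -- l*l = 1, contradiction with order 3
      haveI : Finite L := Nat.finite_of_card_ne_zero (by rw [hL3]; norm_num)
      have h3 := pow_card_eq_one' (x := (⟨l, hl0⟩ : L))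
      rw [hL3] at h3
      have h4 : l ^ 3 = 1 := by simpa using congrArg Subtype.val h3
      rw [pow_succ, pow_two, h, one_mul] at h4
      exact absurd h4 hl1
    · exact absurd (mul_eq_left.1 h) hl1
    · exact h
  have he2 : e * e = e⁻¹ := by
    apply eq_inv_of_mul_eq_one_left
    rw [← pow_two, ← pow_succ]; exact he3
  have hLc : ∀ n, φ n l = l ∨ φ n l = l⁻¹ := by
    intro n
    rcases three_cases L hL3 hl0 hl1 (hLN n l hl0) with h | h | h
    · exact absurd (hinj n l h) hl1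
    · exact Or.inl h
    · exact Or.inr h
  -- if n e = e⁻¹ * k and n k = k⁻¹ then n^3 inverts e
  have key1 : ∀ n, ∀ k : V, k * k = k⁻¹ → φ n e = e⁻¹ * k → φ n k = k⁻¹ → False := by
    intro n k hk h1 h2
    apply hI (n * (n * n))
    have h3 : φ n (φ n e) = e * k := by
      rw [h1, map_mul, map_inv, h1, h2, mul_inv, inv_inv, mul_assoc, ← mul_inv, hk, inv_inv]
    rw [hmul, hmul, h3, map_mul, h1, h2, mul_assoc, mul_inv_cancel, mul_one]
  have h0l : φ n0 l = l := by
    rcases hLc n0 with h | h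
    · exact h
    · exact (key1 n0 l hl3 h0 h).elim
  have hli : (l⁻¹ : V) * l⁻¹ = (l⁻¹)⁻¹ := by rw [← mul_inv, hl3]
  have hei : (e⁻¹ : V) * e⁻¹ = e := by rw [← mul_inv, he2, inv_inv]
  have hel1 : e * l ≠ 1 := by
    intro h; apply heL
    rw [eq_inv_of_mul_eq_one_left h]; exact L.inv_mem hl0
  have hel3 : (e * l) ^ 3 = 1 := by
    rw [mul_pow, he3, one_mul, pow_succ, pow_two, hl3, inv_mul_cancel]
  refine ⟨Subgroup.zpowers (e * l), ?_, ?_⟩
  · intro hmem
    haveI : Fact (Nat.Prime 3) := ⟨Nat.prime_three⟩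
    have hc : Nat.card (Subgroup.zpowers (e * l)) = 3 := by
      rw [Nat.card_zpowers]; exact orderOf_eq_prime hel3 hel1
    rcases three_cases _ hc (Subgroup.mem_zpowers (e * l)) hel1 hmem with h | h | h
    · exact he1 h
    · exact hl1 (mul_eq_left.1 h.symm)
    · apply heL
      have h2 : e * (e * l) = 1 := by rw [eq_inv_iff_mul_eq_one.1 h]
      rw [← mul_assoc, he2, inv_mul_eq_one] at h2
      rw [h2]; exact hl0
  · intro n
    rcases hdich n with h | h
    · have hn : φ n e = e * (φ n e * e⁻¹) := by rw [mul_comm (φ n e), mul_inv_cancel_left]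
      rcases three_cases L hL3 hl0 hl1 h with h1 | h1 | h1
      · rw [h1]; exact Subgroup.one_mem _
      · rw [h1] at hn
        exfalso
        rcases hLc n with h2 | h2
        · apply hI (n * n0)
          rw [hmul, h0, map_mul, map_inv, hn, h2, mul_inv, mul_assoc, inv_mul_cancel, mul_one]
        · apply key1 (n0 * n) l⁻¹ hli
          · rw [hmul, hn, map_mul, h0, h0l, mul_assoc, hl3]
          · rw [hmul, map_inv, h2, inv_inv, h0l]
      · rw [h1] at hn
        exfalso
        apply hI (n0 * n)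
        rw [hmul, hn, map_mul, map_inv, h0, h0l, mul_assoc, mul_inv_cancel, mul_one]
    · have hn : φ n e = e⁻¹ * (φ n e * e) := by rw [mul_comm (φ n e), inv_mul_cancel_left]
      rcases three_cases L hL3 hl0 hl1 h with h1 | h1 | h1
      · rw [h1, mul_one] at hn; exact absurd hn (hI n)
      · rw [h1] at hn
        rw [hn, mul_comm e⁻¹ l, mul_assoc, hei, mul_comm l e]
        exact Subgroup.mem_zpowers _
      · rw [h1] at hn
        exfalso
        rcases hLc n with h2 | h2
        · apply hI (n0 * (n * n0))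
          have h3 : φ n (e⁻¹ * l) = e * l⁻¹ := by
            rw [map_mul, map_inv, hn, h2, mul_inv, inv_inv, inv_inv, mul_assoc, hl3]
          rw [hmul, hmul, h0, h3, map_mul, map_inv, h0, h0l, mul_assoc, mul_inv_cancel, mul_one]
        · apply key1 n l⁻¹ hli hn
          rw [map_inv, h2]

theorem core {G : Type*} [Group G] [Finite G] (P : Sylow 3 G) (e : G)
    (he : e ∈ (P : Subgroup G)) (he3 : orderOf e = 3)
    (hB : ∀ q ∈ Subgroup.normalizer ((P : Subgroup G) : Set G), (∃ k : ℕ, q ^ 2 ^ k = 1) →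
      ∀ x ∈ (P : Subgroup G), IsConj e x → q * x * q⁻¹ ∈ Subgroup.zpowers x → q = 1)
    (Httr : ∀ K : Subgroup G, K ≤ (P : Subgroup G) → (∀ x ∈ (P : Subgroup G), ∀ k ∈ K, x * k * x⁻¹ ∈ K) →
      (∀ x ∈ (P : Subgroup G), ∀ y ∈ (P : Subgroup G), x * y * x⁻¹ * y⁻¹ ∈ K) → e ∉ K →
      (∀ s : G, s * e * s⁻¹ ∈ (P : Subgroup G) → (s * e * s⁻¹) * e⁻¹ ∈ K) → False)
    (Ht3 : ∀ s : G, s * e * s⁻¹ ∈ (P : Subgroup G) →
      ∃ n ∈ Subgroup.normalizer ((P : Subgroup G) : Set G), ∃ c ∈ ⁅(P : Subgroup G), (P : Subgroup G)⁆,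
      s * e * s⁻¹ = n * e * n⁻¹ * c)
    (Hm3 : (commutator (P : Subgroup G)).index = 9 ∧
      (∀ c ∈ commutator (P : Subgroup G), IsConj (⟨e, he⟩ : (P : Subgroup G)) (⟨e, he⟩ * c)) ∧
      ∃ L : Subgroup (P : Subgroup G), L.Characteristic ∧ L.index = 3 ∧ commutator (P : Subgroup G) ≤ L) : False := by
  obtain ⟨hi9, hcc, L, hLc, hLi, hLD⟩ := Hm3
  set e' : (P : Subgroup G) := ⟨e, he⟩ with he'
  have he1 : e ≠ 1 := by
    intro h; rw [h, orderOf_one] at he3; norm_num at he3
  have hee : e ^ 3 = 1 := by rw [← he3]; exact pow_orderOf_eq_one e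
  let N := ↥(Subgroup.normalizer ((P : Subgroup G) : Set G))
  let V := Abelianization (P : Subgroup G)
  let c : N → MulAut (P : Subgroup G) := fun n => (P : Subgroup G).normalizerMonoidHom n
  have hcval : ∀ (n : N) (x : (P : Subgroup G)), ((c n x : (P : Subgroup G)) : G) = n * x * (n : G)⁻¹ := by
    intro n x; rfl
  let φ : N → V →* V := fun n => Abelianization.map (c n).toMonoidHom
  have hφ : ∀ (n : N) (x : (P : Subgroup G)), φ n (Abelianization.of x) = Abelianization.of (c n x) := by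
    intro n x; rfl
  have hmul : ∀ n m v, φ (n * m) v = φ n (φ m v) := by
    intro n m v
    obtain ⟨x, rfl⟩ := QuotientGroup.mk_surjective v
    show φ (n * m) (Abelianization.of x) = φ n (φ m (Abelianization.of x))
    rw [hφ, hφ, hφ]
    congr 1
    apply Subtype.ext
    rw [hcval, hcval, hcval]
    show ((n : G) * (m : G)) * (x : G) * ((n : G) * (m : G))⁻¹ = _
    group
  have hone : ∀ v, φ 1 v = v := by
    intro v
    obtain ⟨x, rfl⟩ := QuotientGroup.mk_surjective v
    show φ 1 (Abelianization.of x) = Abelianization.of x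
    rw [hφ]
    congr 1
    apply Subtype.ext
    rw [hcval]; simp
  have hofk : ∀ x : (P : Subgroup G), (Abelianization.of x : V) = 1 ↔ x ∈ commutator (P : Subgroup G) := by
    intro x; exact QuotientGroup.eq_one_iff x
  have hsurj : Function.Surjective (Abelianization.of : (P : Subgroup G) →* V) := QuotientGroup.mk_surjective
  have hker : (Abelianization.of : (P : Subgroup G) →* V).ker ≤ L := by
    intro x hx; exact hLD ((hofk x).1 hx)
  let Lb : Subgroup V := L.map Abelianization.of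
  have hLbi : Lb.index = 3 := by
    exact (Subgroup.index_map_eq L hsurj hker).trans hLi
  have hV : Nat.card V = 9 := hi9
  have hLb3 : Nat.card Lb = 3 := by
    have := Subgroup.card_mul_index Lb
    rw [hLbi, hV] at this; omega
  have hLN : ∀ n, ∀ l ∈ Lb, φ n l ∈ Lb := by
    rintro n _ ⟨x, hx, rfl⟩
    rw [hφ]
    refine ⟨c n x, ?_, rfl⟩
    have := (Subgroup.characteristic_iff_map_le.1 hLc) (c n)
    exact this ⟨x, hx, rfl⟩
  have he'3 : e' ^ 3 = 1 := by apply Subtype.ext; simpa using hee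
  have hev3 : (Abelianization.of e' : V) ^ 3 = 1 := by rw [← map_pow, he'3, map_one]
  have hev1 : (Abelianization.of e' : V) ≠ 1 := by
    intro h
    have h1 := hcc e'⁻¹ (Subgroup.inv_mem _ ((hofk e').1 h))
    rw [mul_inv_cancel] at h1
    obtain ⟨w, hw⟩ := isConj_iff.1 h1
    have h2 : e' = 1 := by
      rw [mul_inv_eq_one, mul_eq_left] at hw
      exact hw
    apply he1; exact congrArg Subtype.val h2
  have hI : ∀ n, φ n (Abelianization.of e') ≠ (Abelianization.of e' : V)⁻¹ := by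
    intro n h
    rw [hφ, ← map_inv] at h
    -- c n e' = e'⁻¹ * d
    have h1 : e' * c n e' ∈ commutator (P : Subgroup G) := by
      rw [← hofk, map_mul, h, map_inv, mul_inv_cancel]
    -- (c n e')⁻¹ = e' * c''
    have h2 : e'⁻¹ * (c n e')⁻¹ ∈ commutator (P : Subgroup G) := by
      rw [← hofk, map_mul, map_inv, map_inv, h, map_inv, inv_inv, inv_mul_cancel]
    have h3 := hcc _ h2
    rw [mul_inv_cancel_left] at h3
    obtain ⟨p, hp⟩ := isConj_iff.1 h3
    -- p e p⁻¹ = n e⁻¹ n⁻¹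
    have h4 : (p : G) * e * (p : G)⁻¹ = (n : G) * e⁻¹ * (n : G)⁻¹ := by
      have := congrArg Subtype.val hp
      rw [Subgroup.coe_inv, hcval] at this
      simp only [Subgroup.coe_mul, Subgroup.coe_inv] at this
      rw [show (p : G) * e * (p : G)⁻¹ = ((p : G) * (e' : G) * (p : G)⁻¹) from rfl, this]
      simp [he', mul_assoc]
    obtain ⟨m, hm⟩ : ∃ m : G, m = (n : G)⁻¹ * p := ⟨_, rfl⟩
    have hmN : m ∈ Subgroup.normalizer ((P : Subgroup G) : Set G) := by
      rw [hm]
      exact Subgroup.mul_mem _ (Subgroup.inv_mem _ n.2) (Subgroup.le_normalizer p.2)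
    have hme : m * e * m⁻¹ = e⁻¹ := by
      rw [hm]
      calc (n : G)⁻¹ * p * e * ((n : G)⁻¹ * p)⁻¹ = (n : G)⁻¹ * (p * e * (p : G)⁻¹) * n := by group
        _ = e⁻¹ := by rw [h4]; group
    -- 2-part
    obtain ⟨a, b, hb, hab⟩ := Nat.exists_eq_two_pow_mul_odd (n := orderOf m) (orderOf_pos m).ne'
    have hpow : ∀ k : ℕ, Odd k → m ^ k * e * (m ^ k)⁻¹ = e⁻¹ := by
      intro k hk
      obtain ⟨j, rfl⟩ := hk
      have hsq : ∀ j : ℕ, m ^ (2 * j) * e * (m ^ (2 * j))⁻¹ = e := by
        intro j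
        induction j with
        | zero => simp
        | succ j ih =>
          have hm2 : m * (m * e * m⁻¹) * m⁻¹ = e := by
            rw [hme]
            have := congrArg (fun x => x⁻¹) hme
            simp only [mul_inv_rev, inv_inv] at this
            rw [← mul_assoc] at this
            exact this
          calc m ^ (2 * (j + 1)) * e * (m ^ (2 * (j + 1)))⁻¹
              = m ^ (2 * j) * (m * (m * e * m⁻¹) * m⁻¹) * (m ^ (2 * j))⁻¹ := by
                rw [show 2 * (j + 1) = 2 * j + 2 by ring, pow_add, pow_two]; group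
            _ = e := by rw [hm2, ih]
      calc m ^ (2 * j + 1) * e * (m ^ (2 * j + 1))⁻¹
          = m * (m ^ (2 * j) * e * (m ^ (2 * j))⁻¹) * m⁻¹ := by
            rw [pow_succ']; group
        _ = e⁻¹ := by rw [hsq, hme]
    have hq := hB (m ^ b) (Subgroup.pow_mem _ hmN b) ⟨a, by
      rw [← pow_mul, mul_comm, ← hab, pow_orderOf_eq_one]⟩ e he (IsConj.refl e) (by
        rw [hpow b hb]; exact Subgroup.inv_mem _ (Subgroup.mem_zpowers e))
    have h5 := hpow b hb
    rw [hq, one_mul, inv_one, mul_one] at h5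
    have h6 : e * e = 1 := by
      nth_rewrite 2 [h5]; exact mul_inv_cancel e
    apply he1
    rw [pow_succ, pow_two, h6, one_mul] at hee
    exact hee
  obtain ⟨K, hK1, hK2⟩ := abs Lb hLb3 hLbi φ hmul hone hLN (Abelianization.of e') hev3 hev1 hI
  let KP : Subgroup (P : Subgroup G) := K.comap Abelianization.of
  let KG : Subgroup G := KP.map (P : Subgroup G).subtype
  have hKG : ∀ x : (P : Subgroup G), (x : G) ∈ KG ↔ (Abelianization.of x : V) ∈ K := by
    intro x
    constructor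
    · rintro ⟨y, hy, hyx⟩
      have : y = x := Subtype.ext hyx
      rw [← this]; exact hy
    · intro h; exact ⟨x, h, rfl⟩
  refine Httr KG ?_ ?_ ?_ ?_ ?_
  · exact Subgroup.map_subtype_le _
  · intro x hx k hk
    have hkP : k ∈ (P : Subgroup G) := Subgroup.map_subtype_le _ hk
    have h1 := (hKG ⟨k, hkP⟩).1 hk
    have h2 : (Abelianization.of ((⟨x, hx⟩ : (P : Subgroup G)) * ⟨k, hkP⟩ * (⟨x, hx⟩ : (P : Subgroup G))⁻¹) : V) ∈ K := by
      rw [map_mul, map_mul, map_inv, mul_comm (Abelianization.of (⟨x, hx⟩ : (P : Subgroup G))), mul_assoc, mul_inv_cancel, mul_one]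
      exact h1
    exact (hKG _).2 h2
  · intro x hx y hy
    have h2 : (Abelianization.of ((⟨x, hx⟩ : (P : Subgroup G)) * ⟨y, hy⟩ * (⟨x, hx⟩ : (P : Subgroup G))⁻¹ * (⟨y, hy⟩ : (P : Subgroup G))⁻¹) : V) ∈ K := by
      rw [map_mul, map_mul, map_mul, map_inv, map_inv, mul_comm (Abelianization.of (⟨x, hx⟩ : (P : Subgroup G))), mul_assoc (Abelianization.of (⟨y, hy⟩ : (P : Subgroup G))), mul_inv_cancel, mul_one, mul_inv_cancel]
      exact K.one_mem
    exact (hKG _).2 h2
  · intro h
    exact hK1 ((hKG e').1 h)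
  · intro s hs
    obtain ⟨n, hn, d, hd, h⟩ := Ht3 s hs
    have hdP : d ∈ (P : Subgroup G) := by
      have : ⁅(P : Subgroup G), (P : Subgroup G)⁆ ≤ (P : Subgroup G) := Subgroup.commutator_le_self _
      exact this hd
    have hd' : (⟨d, hdP⟩ : (P : Subgroup G)) ∈ commutator (P : Subgroup G) := by
      have h1 : d ∈ (commutator (P : Subgroup G)).map (P : Subgroup G).subtype := by
        rw [Subgroup.map_subtype_commutator]; exact hd
      obtain ⟨y, hy, hyx⟩ := h1
      have : y = ⟨d, hdP⟩ := Subtype.ext hyx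
      rw [← this]; exact hy
    have h2 : (Abelianization.of (c ⟨n, hn⟩ e' * ⟨d, hdP⟩ * e'⁻¹) : V) ∈ K := by
      rw [map_mul, map_mul, (hofk _).2 hd', mul_one, map_inv, ← hφ]
      exact hK2 ⟨n, hn⟩
    have h3 := (hKG _).2 h2
    have h4 : ((c ⟨n, hn⟩ e' * ⟨d, hdP⟩ * e'⁻¹ : (P : Subgroup G)) : G) = s * e * s⁻¹ * e⁻¹ := by
      rw [h]; rfl
    rw [h4] at h3
    exact h3

/-- the centralizer in `P` versus in `G` -/
theorem card_cent {G : Type*} [Group G] (P : Subgroup G) (e : G) (he : e ∈ P) :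
    Nat.card (Subgroup.centralizer ({(⟨e, he⟩ : P)} : Set P)) = Nat.card ↥(P ⊓ Subgroup.centralizer ({e} : Set G)) := by
  refine Nat.card_congr ⟨fun x => ⟨x.1.1, x.1.2, ?_⟩, fun x => ⟨⟨x.1, x.2.1⟩, ?_⟩, fun x => rfl, fun x => rfl⟩
  · show (x.1.1 : G) ∈ Subgroup.centralizer ({e} : Set G)
    rw [Subgroup.mem_centralizer_singleton_iff]
    have := Subgroup.mem_centralizer_singleton_iff.1 x.2
    exact congrArg Subtype.val this
  · rw [Subgroup.mem_centralizer_singleton_iff]
    apply Subtype.ext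
    have := Subgroup.mem_centralizer_singleton_iff.1 x.2.2
    exact this

end Cfsg.Agent.H59.CAbs
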