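import Mathlib

set_option autoImplicit false
set_option linter.style.haveILetI false

/-! Counting fixed points; the subgroup generated by the derangements of a transitive group. -/

namespace Cfsg.Agent.H59

open MulAction

/-- Burnside's lemma with `Nat.card`. -/
theorem burnside_nat (G Ω : Type*) [Group G] [Fintype G] [MulAction G Ω] [Finite Ω] :
    ∑ g : G, Nat.card (fixedBy Ω g) = Nat.card (orbitRel.Quotient G Ω) * Nat.card G := by
  classical
  haveI := Fintype.ofFinite Ω
  haveI : Fintype (orbitRel.Quotient G Ω) := Fintype.ofFinite _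
  simp only [Nat.card_eq_fintype_card]
  convert sum_card_fixedBy_eq_card_orbits_mul_card_group G Ω

theorem card_orbits_of_pretransitive (G Ω : Type*) [Group G] [MulAction G Ω]
    [IsPretransitive G Ω] [Nonempty Ω] : Nat.card (orbitRel.Quotient G Ω) = 1 := by
  rw [Nat.card_eq_one_iff_unique]
  refine ⟨?_, ?_⟩
  · exact (pretransitive_iff_subsingleton_quotient G Ω).mp inferInstance
  · obtain ⟨a⟩ := ‹Nonempty Ω›
    exact ⟨Quotient.mk'' a⟩

theorem pretransitive_of_card_orbits (G Ω : Type*) [Group G] [MulAction G Ω]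
    (h : Nat.card (orbitRel.Quotient G Ω) = 1) : IsPretransitive G Ω := by
  rw [pretransitive_iff_subsingleton_quotient]
  exact (Nat.card_eq_one_iff_unique.mp h).1

theorem fixedBy_subgroup {G Ω : Type*} [Group G] [MulAction G Ω] (S : Subgroup G) (d : S) :
    fixedBy Ω d = fixedBy Ω (d : G) := rfl

theorem card_fixedBy_prod {G Ω : Type*} [Group G] [MulAction G Ω] (g : G) :
    Nat.card (fixedBy (Ω × Ω) g) = Nat.card (fixedBy Ω g) ^ 2 := by
  rw [sq, ← Nat.card_prod]
  refine Nat.card_congr ⟨fun x => (⟨x.1.1, ?_⟩, ⟨x.1.2, ?_⟩), fun x => ⟨(x.1.1, x.2.1), ?_⟩,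
    fun x => by simp, fun x => by simp⟩
  · have := x.2; rw [mem_fixedBy] at this ⊢; exact congrArg Prod.fst this
  · have := x.2; rw [mem_fixedBy] at this ⊢; exact congrArg Prod.snd this
  · have h1 := x.1.2; have h2 := x.2.2; rw [mem_fixedBy] at h1 h2 ⊢
    exact Prod.ext h1 h2

/-- Sum over a subgroup as a filtered sum. -/
theorem sum_subgroup {G : Type*} [Group G] [Fintype G] (S : Subgroup G) [DecidablePred (· ∈ S)]
    (f : G → ℕ) : ∑ d : S, f d = ∑ g ∈ Finset.univ.filter (· ∈ S), f g := by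
  symm
  exact Finset.sum_subtype (Finset.univ.filter (· ∈ S)) (fun x => by simp) f

/-- If a subgroup `S` of a transitive group contains all the derangements, then it is transitive and
all elements outside `S` fix exactly one point. -/
theorem derangement_subgroup {G Ω : Type*} [Group G] [Finite G] [MulAction G Ω] [Finite Ω]
    [Nonempty Ω] (htrans : IsPretransitive G Ω) (S : Subgroup G)
    (hS : ∀ g : G, (∀ ω : Ω, g • ω ≠ ω) → g ∈ S) :
    IsPretransitive S Ω ∧ ∀ g : G, g ∉ S → Nat.card (fixedBy Ω g) = 1 := by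
  classical
  haveI := Fintype.ofFinite G
  have h1 := burnside_nat G Ω
  rw [card_orbits_of_pretransitive, one_mul] at h1
  have h2 := burnside_nat S Ω
  have h2' : ∑ d : S, Nat.card (fixedBy Ω d) =
      ∑ g ∈ Finset.univ.filter (· ∈ S), Nat.card (fixedBy Ω g) := by
    rw [← sum_subgroup S (fun g => Nat.card (fixedBy Ω g))]
    rfl
  rw [h2'] at h2
  have hsplit := Finset.sum_filter_add_sum_filter_not (Finset.univ : Finset G) (· ∈ S)
    (fun g => Nat.card (fixedBy Ω g))
  have hcard := Finset.card_filter_add_card_filter_not (s := (Finset.univ : Finset G)) (· ∈ S)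
  have hcS : (Finset.univ.filter (· ∈ S)).card = Nat.card S := by
    rw [Nat.card_eq_fintype_card, Fintype.card_subtype]
  have hge : ∀ g : G, g ∉ S → 1 ≤ Nat.card (fixedBy Ω g) := by
    intro g hg
    have : ∃ ω : Ω, g • ω = ω := by
      by_contra hcon
      push Not at hcon
      exact hg (hS g hcon)
    obtain ⟨ω, hω⟩ := this
    haveI : Nonempty (fixedBy Ω g) := ⟨⟨ω, hω⟩⟩
    exact Nat.card_pos
  have hge' : (Finset.univ.filter (fun g : G => ¬ g ∈ S)).card ≤
      ∑ g ∈ Finset.univ.filter (fun g : G => ¬ g ∈ S), Nat.card (fixedBy Ω g) := by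
    rw [Finset.card_eq_sum_ones]
    apply Finset.sum_le_sum
    intro g hg
    exact hge g (Finset.mem_filter.mp hg).2
  have hr : 1 ≤ Nat.card (orbitRel.Quotient S Ω) := by
    obtain ⟨a⟩ := ‹Nonempty Ω›
    haveI : Nonempty (orbitRel.Quotient S Ω) := ⟨Quotient.mk'' a⟩
    exact Nat.card_pos
  have hSpos : 0 < Nat.card S := Nat.card_pos
  have hG : (Finset.univ : Finset G).card = Nat.card G := by
    rw [Nat.card_eq_fintype_card, Finset.card_univ]
  rw [hcS, hG] at hcard
  have hr1 : Nat.card (orbitRel.Quotient S Ω) = 1 := by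
    by_contra hne
    have : 2 ≤ Nat.card (orbitRel.Quotient S Ω) := by omega
    have : 2 * Nat.card S ≤ Nat.card (orbitRel.Quotient S Ω) * Nat.card S :=
      Nat.mul_le_mul_right _ this
    omega
  refine ⟨pretransitive_of_card_orbits S Ω hr1, ?_⟩
  rw [hr1, one_mul] at h2
  have heq : ∑ g ∈ Finset.univ.filter (fun g : G => ¬ g ∈ S), Nat.card (fixedBy Ω g) =
      ∑ g ∈ Finset.univ.filter (fun g : G => ¬ g ∈ S), 1 := by
    rw [← Finset.card_eq_sum_ones]; omega
  have := (Finset.sum_eq_sum_iff_of_le (s := Finset.univ.filter (fun g : G => ¬ g ∈ S))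
    (f := fun _ => 1) (g := fun g => Nat.card (fixedBy Ω g))
    (fun g hg => hge g (Finset.mem_filter.mp hg).2)).mp heq.symm
  intro g hg
  exact (this g (Finset.mem_filter.mpr ⟨Finset.mem_univ _, hg⟩)).symm

/-- Sum over the complement. -/
theorem sum_split_subgroup {G : Type*} [Group G] [Fintype G] (S : Subgroup G) [Fintype S] (f : G → ℕ)
    (h1 : ∀ g, g ∉ S → f g = 1) :
    ∑ g : G, f g + Nat.card S = ∑ d : S, f d + Nat.card G := by
  classical
  have hss : ∑ d : S, f d = ∑ g ∈ Finset.univ.filter (· ∈ S), f g := by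
    rw [← sum_subgroup S f]
    exact Finset.sum_congr (by ext; simp) (fun _ _ => rfl)
  rw [hss]
  have hsplit := Finset.sum_filter_add_sum_filter_not (Finset.univ : Finset G) (· ∈ S) f
  have hcard := Finset.card_filter_add_card_filter_not (s := (Finset.univ : Finset G)) (· ∈ S)
  have hcS : (Finset.univ.filter (· ∈ S)).card = Nat.card S := by
    rw [Nat.card_eq_fintype_card, Fintype.card_subtype]
  have hG : (Finset.univ : Finset G).card = Nat.card G := by
    rw [Nat.card_eq_fintype_card, Finset.card_univ]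
  have heq : ∑ g ∈ Finset.univ.filter (fun g : G => ¬ g ∈ S), f g =
      (Finset.univ.filter (fun g : G => ¬ g ∈ S)).card := by
    rw [Finset.card_eq_sum_ones]
    exact Finset.sum_congr rfl (fun g hg => h1 g (Finset.mem_filter.mp hg).2)
  omega

/-- Rank formula for a subgroup containing all derangements. -/
theorem derangement_rank_formula {G Ω : Type*} [Group G] [Finite G] [MulAction G Ω] [Finite Ω]
    (htrans : IsPretransitive G Ω) (S : Subgroup G)
    (hS : ∀ g : G, (∀ ω : Ω, g • ω ≠ ω) → g ∈ S) :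
    Nat.card (orbitRel.Quotient S (Ω × Ω)) - 1 =
      (Nat.card (orbitRel.Quotient G (Ω × Ω)) - 1) * S.index := by
  classical
  cases isEmpty_or_nonempty Ω with
  | inl h =>
    haveI : IsEmpty (orbitRel.Quotient S (Ω × Ω)) :=
      ⟨fun x => by induction x using Quotient.inductionOn'; exact h.false (Prod.fst ‹_›)⟩
    haveI : IsEmpty (orbitRel.Quotient G (Ω × Ω)) :=
      ⟨fun x => by induction x using Quotient.inductionOn'; exact h.false (Prod.fst ‹_›)⟩
    simp
  | inr h =>
    haveI := Fintype.ofFinite G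
    obtain ⟨-, hone⟩ := derangement_subgroup htrans S hS
    have h1 := burnside_nat G (Ω × Ω)
    have h2 := burnside_nat S (Ω × Ω)
    simp only [card_fixedBy_prod] at h1 h2
    have h2' : ∑ d : S, Nat.card (fixedBy Ω d) ^ 2 =
      ∑ d : S, Nat.card (fixedBy Ω (d : G)) ^ 2 := rfl
    rw [h2'] at h2
    have h3 := sum_split_subgroup S (fun g => Nat.card (fixedBy Ω g) ^ 2)
      (fun g hg => by simp [hone g hg])
    have h4 := S.card_mul_index
    rw [h1, h2] at h3
    rw [← h4] at h3
    have hSpos : 0 < Nat.card S := Nat.card_pos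
    obtain ⟨a⟩ := h
    haveI : Nonempty (orbitRel.Quotient S (Ω × Ω)) := ⟨Quotient.mk'' (a, a)⟩
    haveI : Nonempty (orbitRel.Quotient G (Ω × Ω)) := ⟨Quotient.mk'' (a, a)⟩
    have hrS : 0 < Nat.card (orbitRel.Quotient S (Ω × Ω)) := Nat.card_pos
    have hrG : 0 < Nat.card (orbitRel.Quotient G (Ω × Ω)) := Nat.card_pos
    obtain ⟨u, hu⟩ : ∃ u, Nat.card (orbitRel.Quotient S (Ω × Ω)) = u + 1 := ⟨_, (Nat.succ_pred_eq_of_pos hrS).symm⟩
    obtain ⟨v, hv⟩ : ∃ v, Nat.card (orbitRel.Quotient G (Ω × Ω)) = v + 1 := ⟨_, (Nat.succ_pred_eq_of_pos hrG).symm⟩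
    rw [hu, hv] at h3 ⊢
    simp only [Nat.add_sub_cancel]
    have : Nat.card S * (v * S.index) = Nat.card S * u := by
      nlinarith [h3]
    exact (Nat.eq_of_mul_eq_mul_left hSpos this).symm

end Cfsg.Agent.H59
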