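import Cfsg.Agent.H59.Derange

set_option autoImplicit false
set_option linter.style.haveILetI false

/-! Divisibility consequences for the subgroup generated by the derangements. -/

namespace Cfsg.Agent.H59

open MulAction

/-- If `e` divides the size of every orbit of `K` inside an invariant set `S` then `e ∣ |S|`. -/
theorem dvd_card_of_dvd_orbits {K Ω : Type*} [Group K] [MulAction K Ω] [Finite Ω] (e : ℕ)
    (S : Set Ω) (hS : ∀ k : K, ∀ x ∈ S, k • x ∈ S) (h : ∀ x ∈ S, e ∣ Nat.card (orbit K x)) :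
    e ∣ Nat.card S := by
  classical
  let T : SubMulAction K Ω := ⟨S, fun k x hx => hS k x hx⟩
  have hT : Nat.card T = Nat.card S := rfl
  rw [← hT]
  haveI := Fintype.ofFinite T
  haveI : Finite (orbitRel.Quotient K T) := inferInstance
  haveI := Fintype.ofFinite (orbitRel.Quotient K T)
  rw [Nat.card_congr (selfEquivSigmaOrbits K T), Nat.card_sigma]
  apply Finset.dvd_sum
  intro ω _
  set x : T := ω.out with hx
  have h1 : Nat.card (orbit K x) = Nat.card (orbit K (x : Ω)) := by
    apply Nat.card_congr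
    refine ⟨fun y => ⟨y.1.1, ?_⟩, fun y => ⟨⟨y.1, ?_⟩, ?_⟩, fun y => rfl, fun y => rfl⟩
    · obtain ⟨k, hk⟩ := y.2
      exact ⟨k, by rw [← hk]; rfl⟩
    · obtain ⟨k, hk⟩ := y.2
      rw [← hk]; exact hS k _ x.2
    · obtain ⟨y, k, hk⟩ := y
      exact ⟨k, Subtype.ext hk⟩
  rw [h1]
  exact h x x.2

theorem card_stabilizer_mul {G Ω : Type*} [Group G] [Finite G] [MulAction G Ω] [Finite Ω]
    [IsPretransitive G Ω] (a : Ω) : Nat.card Ω * Nat.card (stabilizer G a) = Nat.card G := by
  rw [← index_stabilizer_of_transitive G a, mul_comm]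
  exact Subgroup.card_mul_index _

/-- The relative index of `S ⊓ G_a` in `G_a` is the index of `S` when `S` is transitive. -/
theorem index_eq_relIndex {G Ω : Type*} [Group G] [Finite G] [MulAction G Ω] [Finite Ω]
    [IsPretransitive G Ω] (S : Subgroup G) [IsPretransitive S Ω] (a : Ω) :
    S.relIndex (stabilizer G a) = S.index := by
  have hn : 0 < Nat.card Ω := by
    haveI : Nonempty Ω := ⟨a⟩
    exact Nat.card_pos
  have h1 := card_stabilizer_mul (G := G) a
  have h2 := card_stabilizer_mul (G := S) a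
  have h3 : Nat.card (stabilizer S a) * S.relIndex (stabilizer G a) = Nat.card (stabilizer G a) := by
    have := (S.subgroupOf (stabilizer G a)).card_mul_index
    rw [← this]
    congr 1
    apply Nat.card_congr
    refine ⟨fun y => ⟨⟨y.1.1, ?_⟩, ?_⟩, fun y => ⟨⟨y.1.1, ?_⟩, ?_⟩, fun y => rfl, fun y => rfl⟩
    · exact y.2
    · rw [Subgroup.mem_subgroupOf]; exact y.1.2
    · exact Subgroup.mem_subgroupOf.mp y.2
    · exact y.1.2
  have h4 := S.card_mul_index
  have hs : 0 < Nat.card (stabilizer S a) := Nat.card_pos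
  have h5 : Nat.card Ω * Nat.card (stabilizer S a) * S.relIndex (stabilizer G a) =
      Nat.card Ω * Nat.card (stabilizer S a) * S.index := by
    rw [h2, h4, ← h1, ← h3, ← h2]; ring
  exact Nat.eq_of_mul_eq_mul_left (Nat.mul_pos hn hs) h5

/-- If `S` contains all the derangements then `|G:S|` divides the size of each non-trivial
suborbit. -/
theorem index_dvd_suborbit {G Ω : Type*} [Group G] [Finite G] [MulAction G Ω] [Finite Ω]
    (htrans : IsPretransitive G Ω) (S : Subgroup G)
    (hS : ∀ g : G, (∀ ω : Ω, g • ω ≠ ω) → g ∈ S) (a b : Ω) (hab : b ≠ a) :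
    S.index ∣ Nat.card (orbit (stabilizer G a) b) := by
  classical
  haveI : Nonempty Ω := ⟨a⟩
  obtain ⟨h1, h2⟩ := derangement_subgroup htrans S hS
  rw [← index_eq_relIndex S a]
  have h3 : Nat.card (orbit (stabilizer G a) b) = (stabilizer (stabilizer G a) b).index := by
    rw [index_stabilizer]; rfl
  rw [h3]
  apply Subgroup.index_dvd_of_le
  intro g hg
  rw [Subgroup.mem_subgroupOf]
  by_contra hcon
  have h4 := h2 g hcon
  have h5 : Subsingleton (fixedBy Ω (g : G)) := (Nat.card_eq_one_iff_unique.mp h4).1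
  have h6 := h5.elim (⟨b, hg⟩ : fixedBy Ω (g : G)) ⟨a, g.2⟩
  exact hab (congrArg Subtype.val h6)

/-- If `S` contains all the derangements then `|G:S|` divides `|B| - 1` for each `G_a`-invariant
set `B` containing `a`. -/
theorem index_dvd_card_sub_one {G Ω : Type*} [Group G] [Finite G] [MulAction G Ω] [Finite Ω]
    (htrans : IsPretransitive G Ω) (S : Subgroup G)
    (hS : ∀ g : G, (∀ ω : Ω, g • ω ≠ ω) → g ∈ S) (a : Ω) (B : Set Ω) (haB : a ∈ B)
    (hB : ∀ g : G, g • a = a → ∀ b ∈ B, g • b ∈ B) :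
    S.index ∣ Nat.card B - 1 := by
  classical
  have h1 : S.index ∣ Nat.card (B \ {a} : Set Ω) := by
    apply dvd_card_of_dvd_orbits (K := stabilizer G a)
    · rintro ⟨k, hk⟩ x ⟨hx1, hx2⟩
      refine ⟨hB k hk x hx1, ?_⟩
      intro h
      apply hx2
      have h' : k • x = a := h
      rw [mem_stabilizer_iff] at hk
      rw [← hk] at h'
      exact smul_left_cancel k h'
    · rintro x ⟨hx1, hx2⟩
      exact index_dvd_suborbit htrans S hS a x hx2
  have h2 : Nat.card (B \ {a} : Set Ω) = Nat.card B - 1 := by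
    rw [Nat.card_coe_set_eq, Nat.card_coe_set_eq, Set.ncard_sdiff_singleton_of_mem haB]
  rwa [h2] at h1

/-- A transitive normal subgroup of order `n` (regular), with the point stabilizer transitive on the
other points: `n` is a prime power. -/
theorem isPrimePow_of_regular_normal {G Ω : Type*} [Group G] [Finite G] [MulAction G Ω] [Finite Ω]
    (D : Subgroup G) [D.Normal] [IsPretransitive D Ω] (a : Ω) (hreg : stabilizer D a = ⊥)
    (hn : 2 ≤ Nat.card Ω)
    (h2 : ∀ b c : Ω, b ≠ a → c ≠ a → ∃ g : G, g • a = a ∧ g • b = c) :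
    IsPrimePow (Nat.card Ω) := by
  classical
  have hcard : Nat.card D = Nat.card Ω := by
    have := card_stabilizer_mul (G := D) a
    rw [hreg] at this
    simpa using this.symm
  rw [← hcard] at hn ⊢
  have hne : Nat.card D ≠ 1 := by omega
  obtain ⟨p, hp, hpd⟩ := Nat.exists_prime_and_dvd hne
  haveI : Fact p.Prime := ⟨hp⟩
  obtain ⟨x, hx⟩ := exists_prime_orderOf_dvd_card' (G := D) p hpd
  -- all the non-identity elements have order `p`
  have hall : ∀ y : D, y ≠ 1 → orderOf y = p := by
    intro y hy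
    have hx1 : x ≠ 1 := by
      intro h; rw [h, orderOf_one] at hx; exact hp.one_lt.ne hx
    have hmove : ∀ z : D, z ≠ 1 → (z : G) • a ≠ a := by
      intro z hz hza
      apply hz
      have : z ∈ stabilizer D a := hza
      rwa [hreg, Subgroup.mem_bot] at this
    obtain ⟨g, hg1, hg2⟩ := h2 _ _ (hmove x hx1) (hmove y hy)
    have hmem : g * x * g⁻¹ ∈ D := ‹D.Normal›.conj_mem x x.2 g
    have hy2 : (y : G) = g * x * g⁻¹ := by
      have h3 : (⟨g * x * g⁻¹, hmem⟩ : D)⁻¹ * y ∈ stabilizer D a := by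
        rw [mem_stabilizer_iff]
        change ((g * x * g⁻¹)⁻¹ * (y : G)) • a = a
        rw [mul_smul, ← hg2, ← mul_smul, ← mul_smul]
        have : (g * ↑x * g⁻¹)⁻¹ * g * ↑x = g := by group
        rw [this, hg1]
      rw [hreg, Subgroup.mem_bot, inv_mul_eq_one] at h3
      exact (congrArg Subtype.val h3).symm
    rw [← hx, ← Subgroup.orderOf_coe, ← Subgroup.orderOf_coe, hy2]
    have : (MulAut.conj g) (x : G) = g * x * g⁻¹ := by simp
    rw [← this]
    exact (MulAut.conj g).orderOf_eq (x : G)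
  have hpg : IsPGroup p D := by
    rw [IsPGroup.iff_orderOf]
    intro g
    by_cases hg : g = 1
    · exact ⟨0, by rw [hg]; simp⟩
    · exact ⟨1, by rw [hall g hg, pow_one]⟩
  obtain ⟨k, hk⟩ := (IsPGroup.iff_card).mp hpg
  rw [hk]
  have hk0 : k ≠ 0 := by
    rintro rfl
    rw [pow_zero] at hk; exact hne hk
  exact (hp.isPrimePow).pow hk0

/-- The subgroup generated by the derangements is normal. -/
theorem closure_derangements_normal (G Ω : Type*) [Group G] [MulAction G Ω] :
    (Subgroup.closure {g : G | ∀ ω : Ω, g • ω ≠ ω}).Normal := by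
  refine ⟨fun n hn g => ?_⟩
  induction hn using Subgroup.closure_induction with
  | mem x hx =>
    apply Subgroup.subset_closure
    intro ω hω
    apply hx (g⁻¹ • ω)
    rw [mul_smul, mul_smul] at hω
    rw [eq_inv_smul_iff]; exact hω
  | one => simp [Subgroup.one_mem]
  | mul x y _ _ hx hy =>
    have : g * (x * y) * g⁻¹ = (g * x * g⁻¹) * (g * y * g⁻¹) := by group
    rw [this]; exact Subgroup.mul_mem _ hx hy
  | inv x _ hx =>
    have : g * x⁻¹ * g⁻¹ = (g * x * g⁻¹)⁻¹ := by group
    rw [this]; exact Subgroup.inv_mem _ hx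

end Cfsg.Agent.H59
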