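import Cfsg.Agent.H59.Derange
import Cfsg.Agent.H59.NonabMin

set_option autoImplicit false
set_option linter.style.haveILetI false

/-!
Primitive groups with a non-abelian minimal normal subgroup: the elementary part of O'Nan-Scott
needed for counting derangements.
-/

namespace Cfsg.Agent.H59

open scoped Pointwise
open MulAction

variable {G Ω : Type*} [Group G] [MulAction G Ω]

theorem mem_normalizer_closure (A : Set G) (g : G)
    (h1 : ∀ x ∈ A, g * x * g⁻¹ ∈ Subgroup.closure A)
    (h2 : ∀ x ∈ A, g⁻¹ * x * g ∈ Subgroup.closure A) :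
    g ∈ Subgroup.normalizer (Subgroup.closure A : Set G) := by
  have key : ∀ g : G, (∀ x ∈ A, g * x * g⁻¹ ∈ Subgroup.closure A) →
      ∀ x ∈ Subgroup.closure A, g * x * g⁻¹ ∈ Subgroup.closure A := by
    intro g h x hx
    induction hx using Subgroup.closure_induction with
    | mem x hx => exact h x hx
    | one => simp
    | mul x y _ _ hx hy =>
      have : g * (x * y) * g⁻¹ = (g * x * g⁻¹) * (g * y * g⁻¹) := by group
      rw [this]; exact Subgroup.mul_mem _ hx hy
    | inv x _ hx =>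
      have : g * x⁻¹ * g⁻¹ = (g * x * g⁻¹)⁻¹ := by group
      rw [this]; exact Subgroup.inv_mem _ hx
  rw [Subgroup.mem_normalizer_iff]
  intro x
  refine ⟨key g h1 x, fun hx => ?_⟩
  have h3 := key g⁻¹ (by simpa using h2) _ hx
  have h4 : g⁻¹ * (g * x * g⁻¹) * g⁻¹⁻¹ = x := by group
  rwa [h4] at h3

/-- A nontrivial transitive action of a finite group has a derangement. -/
theorem exists_derangement (K X : Type*) [Group K] [Finite K] [MulAction K X] [Finite X]
    [IsPretransitive K X] [Nontrivial X] : ∃ k : K, ∀ x : X, k • x ≠ x := by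
  by_contra hcon
  have h1 := derangement_subgroup (G := K) (Ω := X) inferInstance ⊥ (by
    intro g hg
    exact (hcon ⟨g, hg⟩).elim)
  obtain ⟨h2, -⟩ := h1
  obtain ⟨x, y, hxy⟩ := exists_pair_ne X
  obtain ⟨⟨k, hk⟩, hkx⟩ := h2.exists_smul_eq x y
  rw [Subgroup.mem_bot] at hk
  subst hk
  apply hxy
  rw [← hkx]
  exact (one_smul K x).symm

/-- A nontrivial normal subgroup of a faithful primitive group is transitive. -/
theorem transitive_of_normal [FaithfulSMul G Ω] (hprim : IsPreprimitive G Ω) (K : Subgroup G)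
    (hK : K.Normal) (hK1 : K ≠ ⊥) : IsPretransitive K Ω := by
  haveI := hprim
  haveI : IsQuasiPreprimitive G Ω := inferInstance
  apply IsQuasiPreprimitive.isPretransitive_of_normal (G := G) (X := Ω) (N := K)
  intro h
  apply hK1
  rw [eq_bot_iff]
  intro k hk
  rw [Subgroup.mem_bot]
  apply FaithfulSMul.eq_of_smul_eq_smul (α := Ω)
  intro ω
  rw [one_smul]
  have : ω ∈ fixedPoints K Ω := by rw [h]; trivial
  exact this ⟨k, hk⟩

/-- Elements commuting with a transitive group are semiregular. -/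
theorem eq_one_of_commute_transitive [FaithfulSMul G Ω] (K : Subgroup G) [IsPretransitive K Ω]
    (x : G) (hx : ∀ k ∈ K, k * x = x * k) (ω : Ω) (hω : x • ω = ω) : x = 1 := by
  apply FaithfulSMul.eq_of_smul_eq_smul (α := Ω)
  intro ω'
  rw [one_smul]
  obtain ⟨⟨k, hk⟩, rfl⟩ := MulAction.exists_smul_eq K ω ω'
  change x • k • ω = k • ω
  rw [← mul_smul, ← hx k hk, mul_smul, hω]

theorem IsMinComp.mem_iff_mul {N T : Subgroup G} (h : IsMinComp N T) {n : G} (hn : n ∈ N) :
    ∃ s ∈ T, ∃ c ∈ Subgroup.centralizer (T : Set G), s * c = n := by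
  let K : Subgroup G :=
    { carrier := {n | ∃ s ∈ T, ∃ c ∈ Subgroup.centralizer (T : Set G), s * c = n}
      mul_mem' := by
        rintro _ _ ⟨s, hs, c, hc, rfl⟩ ⟨s', hs', c', hc', rfl⟩
        refine ⟨s * s', T.mul_mem hs hs', c * c', Subgroup.mul_mem _ hc hc', ?_⟩
        have h1 := Subgroup.mem_centralizer_iff.mp hc s' hs'
        calc s * s' * (c * c') = s * (s' * c) * c' := by group
          _ = s * (c * s') * c' := by rw [h1]
          _ = s * c * (s' * c') := by group
      one_mem' := ⟨1, T.one_mem, 1, Subgroup.one_mem _, by simp⟩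
      inv_mem' := by
        rintro _ ⟨s, hs, c, hc, rfl⟩
        refine ⟨s⁻¹, T.inv_mem hs, c⁻¹, Subgroup.inv_mem _ hc, ?_⟩
        have h1 := Subgroup.mem_centralizer_iff.mp hc s hs
        rw [← mul_inv_rev, ← h1] }
  have hNK : N ≤ K := by
    rw [← h.iSup_eq]
    apply iSup_le
    intro g x hx
    rcases h.conj_eq_or_comm g with h1 | h1
    · rw [h1] at hx
      exact ⟨x, hx, 1, Subgroup.one_mem _, by simp⟩
    · refine ⟨1, T.one_mem, x, ?_, by simp⟩
      rw [Subgroup.mem_centralizer_iff]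
      intro t ht
      exact h1 t ht x hx
  exact hNK hn

/-- `T` contains a derangement (of the whole set). -/
theorem IsMinComp.exists_derangement [Finite G] [Finite Ω] [FaithfulSMul G Ω] {N T : Subgroup G}
    (h : IsMinComp N T) [IsPretransitive N Ω] [Nonempty Ω] : ∃ t ∈ T, ∀ ω : Ω, t • ω ≠ ω := by
  classical
  obtain ⟨α⟩ := ‹Nonempty Ω›
  have hnt : Nontrivial (orbit T α) := by
    by_contra hcon
    rw [not_nontrivial_iff_subsingleton] at hcon
    have hfix : ∀ t ∈ T, t • α = α := by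
      intro t ht
      have := hcon.elim ⟨(⟨t, ht⟩ : T) • α, mem_orbit _ _⟩ ⟨α, mem_orbit_self α⟩
      exact congrArg Subtype.val this
    apply h.ne_bot
    rw [eq_bot_iff]
    intro t ht
    rw [Subgroup.mem_bot]
    apply FaithfulSMul.eq_of_smul_eq_smul (α := Ω)
    intro ω
    rw [one_smul]
    obtain ⟨⟨n, hn⟩, rfl⟩ := MulAction.exists_smul_eq N α ω
    change t • n • α = n • α
    have h1 : n⁻¹ * t * n ∈ T := by
      rw [← mem_conj_smul, h.norm n hn]; exact ht
    have h2 := hfix _ h1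
    rw [mul_smul, mul_smul, inv_smul_eq_iff] at h2
    exact h2
  obtain ⟨⟨t, ht⟩, htd⟩ := Cfsg.Agent.H59.exists_derangement T (orbit T α)
  refine ⟨t, ht, fun ω hω => ?_⟩
  obtain ⟨⟨n, hn⟩, rfl⟩ := MulAction.exists_smul_eq N α ω
  change t • n • α = n • α at hω
  obtain ⟨s, hs, c, hc, rfl⟩ := h.mem_iff_mul hn
  have h1 : (s⁻¹ * t * s) * c = c * (s⁻¹ * t * s) :=
    Subgroup.mem_centralizer_iff.mp hc _ (T.mul_mem (T.mul_mem (T.inv_mem hs) ht) hs)
  have h2 : (s⁻¹ * t * s) • α = α := by
    have h3 : (s⁻¹ * t * s) • c • α = c • α := by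
      rw [mul_smul, mul_smul, ← mul_smul s c, hω, mul_smul, inv_smul_smul]
    rw [← mul_smul, h1, mul_smul] at h3
    exact smul_left_cancel c h3
  apply htd ⟨s • α, ⟨⟨s, hs⟩, rfl⟩⟩
  apply Subtype.ext
  change t • s • α = s • α
  rw [mul_smul, mul_smul, inv_smul_eq_iff] at h2
  exact h2

/-- Key lemma: if `T` is not semiregular, `t ∈ T` is a derangement and `y` centralises `T`, then
`t * y` is a derangement. -/
theorem IsMinComp.derangement_mul [Finite G] [Finite Ω] [FaithfulSMul G Ω] [Nontrivial Ω]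
    (hprim : IsPreprimitive G Ω) {N T : Subgroup G} (h : IsMinComp N T)
    (hns : ∃ x ∈ T, x ≠ 1 ∧ ∃ ω : Ω, x • ω = ω) {t y : G} (ht : t ∈ T)
    (htd : ∀ ω : Ω, t • ω ≠ ω) (hy : y ∈ Subgroup.centralizer (T : Set G)) :
    ∀ ω : Ω, (t * y) • ω ≠ ω := by
  classical
  intro β hβ
  haveI := hprim
  set A : Set G := {x | (∃ g : G, x ∈ MulAut.conj g • T) ∧ x • β = β} with hA
  -- the closure of `A` fixes `β`
  have hPβ : ∀ x ∈ Subgroup.closure A, x • β = β := by
    have : Subgroup.closure A ≤ stabilizer G β := by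
      rw [Subgroup.closure_le]
      intro x hx
      exact hx.2
    intro x hx
    exact this hx
  have hPne : Subgroup.closure A ≠ ⊥ := by
    obtain ⟨x, hx, hx1, ω, hω⟩ := hns
    obtain ⟨g, rfl⟩ := MulAction.exists_smul_eq G ω β
    have hmem : g * x * g⁻¹ ∈ Subgroup.closure A := by
      apply Subgroup.subset_closure
      refine ⟨⟨g, conj_mem_conj_smul hx⟩, ?_⟩
      rw [mul_smul, mul_smul, inv_smul_smul, hω]
    intro hbot
    rw [hbot, Subgroup.mem_bot] at hmem
    apply hx1
    have h2 : x = g⁻¹ * (g * x * g⁻¹) * g := by group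
    rw [h2, hmem]; group
  have hstab : stabilizer G β ≤ Subgroup.normalizer (Subgroup.closure A : Set G) := by
    have hconj : ∀ g : G, g • β = β → ∀ x ∈ A, g * x * g⁻¹ ∈ Subgroup.closure A := by
      rintro g hg x ⟨⟨k, hk⟩, hx⟩
      apply Subgroup.subset_closure
      refine ⟨⟨g * k, ?_⟩, ?_⟩
      · rw [conj_smul_mul]; exact conj_mem_conj_smul hk
      · have hg' : g⁻¹ • β = β := by rw [inv_smul_eq_iff]; exact hg.symm
        rw [mul_smul, mul_smul, hg', hx, hg]
    intro g hg
    apply mem_normalizer_closure A g (hconj g hg)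
    have hg' : g⁻¹ • β = β := by rw [inv_smul_eq_iff]; exact hg.symm
    have := hconj g⁻¹ hg'
    simpa using this
  have hnt : Subgroup.normalizer (Subgroup.closure A : Set G) ≠ ⊤ := by
    intro htop
    have hnorm : (Subgroup.closure A).Normal := Subgroup.normalizer_eq_top_iff.mp htop
    have htr := transitive_of_normal hprim _ hnorm hPne
    obtain ⟨γ, hγ⟩ := exists_ne β
    obtain ⟨⟨x, hx⟩, hxγ⟩ := htr.exists_smul_eq β γ
    apply hγ
    rw [← hxγ]
    exact hPβ x hx
  have hco : IsCoatom (stabilizer G β) := IsPreprimitive.isCoatom_stabilizer_of_isPreprimitive G β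
  have heq : Subgroup.normalizer (Subgroup.closure A : Set G) = stabilizer G β := by
    by_contra hne
    exact hnt (hco.2 _ (lt_of_le_of_ne hstab (Ne.symm hne)))
  -- `t` normalises
  have hkey : ∀ t y : G, t ∈ T → y ∈ Subgroup.centralizer (T : Set G) → (t * y) • β = β →
      ∀ x ∈ A, t * x * t⁻¹ ∈ Subgroup.closure A := by
    rintro t y ht hy hty x ⟨⟨g, hg⟩, hx⟩
    apply Subgroup.subset_closure
    rcases h.conj_eq_or_comm g with h1 | h1
    · rw [h1] at hg
      refine ⟨⟨1, ?_⟩, ?_⟩
      · simpa using T.mul_mem (T.mul_mem ht hg) (T.inv_mem ht)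
      · have h2 := Subgroup.mem_centralizer_iff.mp hy x hg
        have h3 : t * x * t⁻¹ = (t * y) * x * (t * y)⁻¹ := by
          calc t * x * t⁻¹ = t * (x * y) * y⁻¹ * t⁻¹ := by group
            _ = t * (y * x) * y⁻¹ * t⁻¹ := by rw [h2]
            _ = (t * y) * x * (t * y)⁻¹ := by group
        have hty' : (t * y)⁻¹ • β = β := by rw [inv_smul_eq_iff]; exact hty.symm
        rw [h3, mul_smul, mul_smul, hty', hx, hty]
    · have h2 := h1 t ht x hg
      have h3 : t * x * t⁻¹ = x := by rw [h2]; group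
      rw [h3]
      exact ⟨⟨g, hg⟩, hx⟩
  have htn : t ∈ Subgroup.normalizer (Subgroup.closure A : Set G) := by
    apply mem_normalizer_closure A t (hkey t y ht hy hβ)
    have h1 := hkey t⁻¹ y⁻¹ (T.inv_mem ht) (Subgroup.inv_mem _ hy) (by
      have h2 := Subgroup.mem_centralizer_iff.mp hy t ht
      rw [← mul_inv_rev, ← h2, inv_smul_eq_iff]; exact hβ.symm)
    simpa using h1
  rw [heq] at htn
  exact htd β htn

end Cfsg.Agent.H59
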