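import Cfsg.Agent.H23.PGroupNormal

/-!
# p-groups with two orbits of length p²: semiregular elements in the 2-closure (owner: helper59)
-/

set_option autoImplicit false
set_option linter.style.haveILetI false
open Cfsg Cfsg.Agent.H23

namespace Cfsg.Agent.H59

variable {P Ω : Type*} [Group P] [MulAction P Ω]

/-- Gluing of two maps of period `n`. -/
theorem glue {D1 D2 : Set Ω} {n : ℕ} (hn : 0 < n)
    (hcov : ∀ x, x ∈ D1 ∨ x ∈ D2) (hdis : ∀ x, x ∈ D1 → x ∉ D2)
    (f1 f2 : Ω → Ω) (h1 : ∀ x ∈ D1, f1 x ∈ D1) (h2 : ∀ x ∈ D2, f2 x ∈ D2)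
    (i1 : ∀ x ∈ D1, f1^[n] x = x) (i2 : ∀ x ∈ D2, f2^[n] x = x)
    (n1 : ∀ x ∈ D1, f1 x ≠ x) (n2 : ∀ x ∈ D2, f2 x ≠ x)
    (c11 : ∀ a ∈ D1, ∀ b ∈ D1, ∃ g : P, f1 a = g • a ∧ f1 b = g • b)
    (c12 : ∀ a ∈ D1, ∀ b ∈ D2, ∃ g : P, f1 a = g • a ∧ f2 b = g • b)
    (c22 : ∀ a ∈ D2, ∀ b ∈ D2, ∃ g : P, f2 a = g • a ∧ f2 b = g • b) :
    ∃ σ : Equiv.Perm Ω, σ ^ n = 1 ∧ (∀ x, σ x ≠ x) ∧ ∀ a b, ∃ g : P, σ a = g • a ∧ σ b = g • b := by
  classical
  set f : Ω → Ω := fun x => if x ∈ D1 then f1 x else f2 x with hf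
  have e1 : ∀ x ∈ D1, f x = f1 x := fun x hx => if_pos hx
  have e2 : ∀ x ∈ D2, f x = f2 x := fun x hx => if_neg (fun h => hdis x h hx)
  have m1 : ∀ m : ℕ, ∀ x ∈ D1, f^[m] x = f1^[m] x ∧ f1^[m] x ∈ D1 := by
    intro m
    induction m with
    | zero => intro x hx; exact ⟨rfl, hx⟩
    | succ m ih =>
      intro x hx
      rw [Function.iterate_succ_apply, Function.iterate_succ_apply, e1 x hx]
      exact ih _ (h1 x hx)
  have m2 : ∀ m : ℕ, ∀ x ∈ D2, f^[m] x = f2^[m] x ∧ f2^[m] x ∈ D2 := by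
    intro m
    induction m with
    | zero => intro x hx; exact ⟨rfl, hx⟩
    | succ m ih =>
      intro x hx
      rw [Function.iterate_succ_apply, Function.iterate_succ_apply, e2 x hx]
      exact ih _ (h2 x hx)
  have hid : ∀ x, f^[n] x = x := by
    intro x
    rcases hcov x with hx | hx
    · rw [(m1 n x hx).1, i1 x hx]
    · rw [(m2 n x hx).1, i2 x hx]
  have hinj : Function.Injective f := by
    intro x y hxy
    obtain ⟨m, rfl⟩ := Nat.exists_eq_succ_of_ne_zero hn.ne'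
    rw [← hid x, ← hid y, Function.iterate_succ_apply, Function.iterate_succ_apply, hxy]
  have hsurj : Function.Surjective f := by
    intro x
    obtain ⟨m, rfl⟩ := Nat.exists_eq_succ_of_ne_zero hn.ne'
    refine ⟨f^[m] x, ?_⟩
    rw [← Function.iterate_succ_apply' f m x]
    exact hid x
  have hbij : Function.Bijective f := ⟨hinj, hsurj⟩
  refine ⟨Equiv.ofBijective f hbij, ?_, ?_, ?_⟩
  · apply Equiv.Perm.ext
    intro x
    rw [Equiv.Perm.coe_pow]
    exact hid x
  · intro x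
    rw [Equiv.ofBijective_apply]
    rcases hcov x with hx | hx
    · rw [e1 x hx]; exact n1 x hx
    · rw [e2 x hx]; exact n2 x hx
  · intro a b
    rw [Equiv.ofBijective_apply, Equiv.ofBijective_apply]
    rcases hcov a with ha | ha <;> rcases hcov b with hb | hb
    · rw [e1 a ha, e1 b hb]; exact c11 a ha b hb
    · rw [e1 a ha, e2 b hb]; exact c12 a ha b hb
    · rw [e2 a ha, e1 b hb]
      obtain ⟨g, h3, h4⟩ := c12 b hb a ha
      exact ⟨g, h4, h3⟩
    · rw [e2 a ha, e2 b hb]; exact c22 a ha b hb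

theorem mem_of_zpow_mem {P : Type*} [Group P] {S : Subgroup P} {w : P} {p : ℕ} {m : ℤ} (hp : p.Prime)
    (h1 : w ^ p ∈ S) (h2 : w ^ m ∈ S) (hm : ¬ (p : ℤ) ∣ m) : w ∈ S := by
  have hpi : Prime (p : ℤ) := Nat.prime_iff_prime_int.1 hp
  obtain ⟨u, v, huv⟩ : IsCoprime (p : ℤ) m := (Irreducible.coprime_iff_not_dvd hpi.irreducible).2 hm
  have h3 : w ^ (u * p + v * m) ∈ S := by
    rw [zpow_add, mul_comm u, mul_comm v, zpow_mul, zpow_mul, zpow_natCast]
    exact mul_mem (zpow_mem h1 _) (zpow_mem h2 _)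
  rw [huv, zpow_one] at h3
  exact h3


section Core

variable {p : ℕ} [hp : Fact p.Prime]

/-- The core: the normal subgroup fixing `D2` pointwise contains a central element `z` of order `p`
and the group is faithful on `D1`. -/
theorem core [Finite P] [Finite Ω] (hP : IsPGroup p P) {D1 D2 : Set Ω}
    (hcov : ∀ x, x ∈ D1 ∨ x ∈ D2) (hdis : ∀ x, x ∈ D1 → x ∉ D2)
    (inv1 : ∀ (g : P) (x : Ω), x ∈ D1 → g • x ∈ D1) (inv2 : ∀ (g : P) (x : Ω), x ∈ D2 → g • x ∈ D2)
    (tr1 : ∀ x ∈ D1, ∀ y ∈ D1, ∃ g : P, g • x = y) (tr2 : ∀ x ∈ D2, ∀ y ∈ D2, ∃ g : P, g • x = y)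
    (card1 : Nat.card D1 = p ^ 2) (card2 : Nat.card D2 = p ^ 2)
    (f1 : ∀ g : P, (∀ x ∈ D1, g • x = x) → g = 1)
    {z : P} (hzc : ∀ g : P, g * z = z * g) (hzp : z ^ p = 1) (hz1 : z ≠ 1)
    (hz2 : ∀ x ∈ D2, z • x = x) :
    ∃ σ : Equiv.Perm Ω, σ ^ p = 1 ∧ (∀ x, σ x ≠ x) ∧ ∀ a b, ∃ g : P, σ a = g • a ∧ σ b = g • b := by
  classical
  have hp0 : 0 < p := hp.out.pos
  have hp1 : 1 < p := hp.out.one_lt
  have iter : ∀ (g : P) (m : ℕ) (x : Ω), (fun y => g • y)^[m] x = g ^ m • x := by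
    intro g m
    induction m with
    | zero => intro x; rw [pow_zero, one_smul]; rfl
    | succ m ih => intro x; rw [Function.iterate_succ_apply', ih, pow_succ', mul_smul]
  -- `z` is fixed point free on `D1`
  have hzf : ∀ x ∈ D1, z • x ≠ x := by
    intro x hx h
    apply hz1
    apply f1
    intro y hy
    obtain ⟨g, rfl⟩ := tr1 x hx y hy
    rw [← mul_smul, ← hzc, mul_smul, h]
  -- the kernel on `D2`
  let K2 : Subgroup P :=
    { carrier := {g | ∀ x ∈ D2, g • x = x}
      mul_mem' := by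
        intro a b ha hb x hx
        rw [mul_smul, hb x hx, ha x hx]
      one_mem' := fun x _ => one_smul P x
      inv_mem' := by
        intro a ha x hx
        rw [inv_smul_eq_iff, ha x hx] }
  have hK2 : ∀ g, g ∈ K2 ↔ ∀ x ∈ D2, g • x = x := fun g => Iff.rfl
  have hK2n : K2.Normal := by
    refine ⟨fun k hk g => ?_⟩
    rw [hK2] at hk ⊢
    intro x hx
    rw [mul_smul, mul_smul, hk _ (inv2 _ _ hx), smul_inv_smul]
  have hzK : z ∈ K2 := hz2
  obtain ⟨a0, ha0⟩ : ∃ a, a ∈ D1 := by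
    have h1 : 0 < Nat.card D1 := by rw [card1]; positivity
    obtain ⟨⟨a, ha⟩⟩ := (Nat.card_pos_iff.1 h1).1
    exact ⟨a, ha⟩
  obtain ⟨b0, hb0⟩ : ∃ a, a ∈ D2 := by
    have h1 : 0 < Nat.card D2 := by rw [card2]; positivity
    obtain ⟨⟨a, ha⟩⟩ := (Nat.card_pos_iff.1 h1).1
    exact ⟨a, ha⟩
  have hK2t : K2 < ⊤ := by
    rw [lt_top_iff_ne_top]
    intro h
    have h1 : Nat.card D2 ≤ 1 := by
      rw [Finite.card_le_one_iff_subsingleton]
      refine ⟨fun x y => Subtype.ext ?_⟩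
      obtain ⟨g, hg⟩ := tr2 x.1 x.2 y.1 y.2
      have h2 : g ∈ K2 := by rw [h]; exact Subgroup.mem_top g
      rw [← hg, h2 x.1 x.2]
    rw [card2] at h1
    have := Nat.one_lt_pow (by norm_num : (2:ℕ) ≠ 0) hp1
    omega
  obtain ⟨w, _, hwK, hwp, hwc, _, _⟩ := exists_step hP hK2n (inferInstance : (⊤ : Subgroup P).Normal) hK2t
  -- `w` is fixed point free on `D2`
  have hwf : ∀ y ∈ D2, w • y ≠ y := by
    intro y hy h
    apply hwK
    rw [hK2]
    intro x hx
    obtain ⟨g, rfl⟩ := tr2 y hy x hx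
    have h1 := hwc g
    rw [hK2] at h1
    have h2 := h1 (g • y) (inv2 g y hy)
    rw [← mul_smul, show w * g * w⁻¹ * g⁻¹ * g = w * g * w⁻¹ by group] at h2
    have h3 : w⁻¹ • y = y := by rw [inv_smul_eq_iff, h]
    rw [mul_smul, mul_smul, h3] at h2
    exact h2
  have hwi : ∀ y ∈ D2, (fun y => w • y)^[p] y = y := by
    intro y hy
    rw [iter]
    exact hwp y hy
  by_cases hI : ∃ a ∈ D1, ∃ k ∈ K2, w • a = k • a
  · -- first case
    have hI' : ∀ a ∈ D1, ∃ k ∈ K2, w • a = k • a := by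
      obtain ⟨a, ha, k, hk, hak⟩ := hI
      intro x hx
      obtain ⟨g, rfl⟩ := tr1 a ha x hx
      refine ⟨(w * g * w⁻¹ * g⁻¹) * (g * k * g⁻¹), mul_mem (hwc g) (hK2n.conj_mem k hk g), ?_⟩
      rw [← mul_smul, ← mul_smul,
        show w * g * w⁻¹ * g⁻¹ * (g * k * g⁻¹) * g = w * g * w⁻¹ * k by group, mul_smul _ k, ← hak,
        ← mul_smul]
      congr 1
      group
    apply glue (P := P) hp0 hcov hdis (fun y => z • y) (fun y => w • y)
    · exact fun x hx => inv1 z x hx
    · exact fun x hx => inv2 w x hx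
    · intro x _
      rw [iter, hzp, one_smul]
    · exact hwi
    · exact hzf
    · exact hwf
    · exact fun a _ b _ => ⟨z, rfl, rfl⟩
    · intro a ha b hb
      obtain ⟨k, hk, hak⟩ := hI' a ha
      refine ⟨z * k⁻¹ * w, ?_, ?_⟩
      · rw [mul_smul, mul_smul, hak, inv_smul_smul]
      · rw [mul_smul, mul_smul, (inv_mem hk : k⁻¹ ∈ K2) _ (inv2 w b hb), hz2 _ (inv2 w b hb)]
    · exact fun a _ b _ => ⟨w, rfl, rfl⟩
  · -- second case
    push Not at hI
    -- the stabilizer of the block of `a0`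
    let S : Subgroup P :=
      { carrier := {g | ∃ k ∈ K2, g • a0 = k • a0}
        mul_mem' := by
          rintro a b ⟨ka, hka, ha⟩ ⟨kb, hkb, hb⟩
          refine ⟨a * kb * a⁻¹ * ka, mul_mem (hK2n.conj_mem kb hkb a) hka, ?_⟩
          rw [mul_smul a b, hb, mul_smul _ ka, ← ha, ← mul_smul, ← mul_smul]
          congr 1
          group
        one_mem' := ⟨1, one_mem _, rfl⟩
        inv_mem' := by
          rintro a ⟨k, hk, ha⟩
          refine ⟨(a⁻¹ * k * a)⁻¹, inv_mem (by simpa using hK2n.conj_mem k hk a⁻¹), ?_⟩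
          rw [← smul_left_cancel_iff (a⁻¹ * k * a), smul_inv_smul, mul_smul, smul_inv_smul,
            mul_smul, ← ha, inv_smul_smul] }
    have hSm : ∀ g, g ∈ S ↔ ∃ k ∈ K2, g • a0 = k • a0 := fun g => Iff.rfl
    have hKS : K2 ≤ S := fun k hk => ⟨k, hk, rfl⟩
    have hwS : w ∉ S := fun ⟨k, hk, h⟩ => hI a0 ha0 k hk h
    have hwdvd : ∀ m : ℤ, w ^ m ∈ S → (p : ℤ) ∣ m := by
      intro m hm
      by_contra hcon
      exact hwS (mem_of_zpow_mem hp.out (hKS hwp) hm hcon)
    have hzdvd : ∀ (m : ℤ) (x : Ω), x ∈ D1 → z ^ m • x = x → (p : ℤ) ∣ m := by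
      intro m x hx hm
      by_contra hcon
      have h1 : z ∈ MulAction.stabilizer P x :=
        mem_of_zpow_mem hp.out (by rw [hzp]; exact one_mem _) hm hcon
      exact hzf x hx h1
    have hzcom : ∀ (m : ℤ) (g : P), z ^ m * g = g * z ^ m := by
      intro m g
      have h1 : Commute g z := hzc g
      exact (h1.zpow_right m).eq.symm
    -- coordinates
    have hFinj : ∀ i j i' j' : ℤ, w ^ i • z ^ j • a0 = w ^ i' • z ^ j' • a0 →
        (p : ℤ) ∣ i - i' ∧ (i = i' → (p : ℤ) ∣ j - j') := by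
      intro i j i' j' h
      refine ⟨?_, ?_⟩
      · apply hwdvd
        rw [hSm]
        refine ⟨z ^ (j' - j), zpow_mem hzK _, ?_⟩
        rw [← smul_left_cancel_iff (z ^ j), ← mul_smul, hzcom, sub_eq_neg_add i, zpow_add,
          zpow_neg, mul_assoc, mul_smul _ (w ^ i * z ^ j), mul_smul (w ^ i), h, inv_smul_smul,
          ← mul_smul, ← zpow_add]
        congr 2
        ring
      · rintro rfl
        rw [smul_left_cancel_iff] at h
        apply hzdvd (j - j') a0 ha0
        rw [sub_eq_neg_add, zpow_add, mul_smul, h, zpow_neg, inv_smul_smul]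
    let e : ZMod p × ZMod p → D1 := fun ij =>
      ⟨w ^ (ij.1.val : ℤ) • z ^ (ij.2.val : ℤ) • a0, inv1 _ _ (inv1 _ _ ha0)⟩
    have hval : ∀ i i' : ZMod p, (p : ℤ) ∣ (i.val : ℤ) - (i'.val : ℤ) → i = i' := by
      intro i i' h
      have h1 := (ZMod.intCast_eq_intCast_iff_dvd_sub (i'.val : ℤ) (i.val : ℤ) p).2 h
      rw [Int.cast_natCast, Int.cast_natCast, ZMod.natCast_zmod_val, ZMod.natCast_zmod_val] at h1
      exact h1.symm
    have heinj : Function.Injective e := by
      rintro ⟨i, j⟩ ⟨i', j'⟩ h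
      have h1 : w ^ (i.val : ℤ) • z ^ (j.val : ℤ) • a0 = w ^ (i'.val : ℤ) • z ^ (j'.val : ℤ) • a0 :=
        congrArg Subtype.val h
      obtain ⟨h2, h3⟩ := hFinj _ _ _ _ h1
      have h4 := hval _ _ h2
      subst h4
      rw [hval _ _ (h3 rfl)]
    have hebij : Function.Bijective e := by
      have := Fintype.ofFinite D1
      rw [Fintype.bijective_iff_injective_and_card]
      refine ⟨heinj, ?_⟩
      rw [Fintype.card_prod, ZMod.card, ← Nat.card_eq_fintype_card, card1, sq]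
    have hD1 : ∀ x ∈ D1, ∃ i j : ZMod p, x = w ^ (i.val : ℤ) • z ^ (j.val : ℤ) • a0 := by
      intro x hx
      obtain ⟨⟨i, j⟩, hij⟩ := hebij.2 ⟨x, hx⟩
      exact ⟨i, j, (congrArg Subtype.val hij).symm⟩
    -- `K2` preserves the blocks
    have hK2b : ∀ k ∈ K2, ∀ x ∈ D1, ∃ m : ℤ, k • x = z ^ m • x := by
      intro k hk x hx
      obtain ⟨g, rfl⟩ := tr1 a0 ha0 x hx
      have hk' : g⁻¹ * k * g ∈ K2 := by simpa using hK2n.conj_mem k hk g⁻¹
      obtain ⟨i, j, hij⟩ := hD1 ((g⁻¹ * k * g) • a0) (inv1 _ _ ha0)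
      have h1 : w ^ (i.val : ℤ) ∈ S := by
        rw [hSm]
        refine ⟨z ^ (-(j.val : ℤ)) * (g⁻¹ * k * g), mul_mem (zpow_mem hzK _) hk', ?_⟩
        rw [mul_smul, hij, ← mul_smul, ← mul_smul, hzcom, mul_assoc, ← zpow_add, neg_add_cancel,
          zpow_zero, mul_one]
      have h2 : i.val = 0 := by
        have h3 := hwdvd _ h1
        have h4 : p ∣ i.val := by exact_mod_cast h3
        exact Nat.eq_zero_of_dvd_of_lt h4 (ZMod.val_lt i)
      refine ⟨(j.val : ℤ), ?_⟩
      rw [h2, Nat.cast_zero, zpow_zero, one_smul] at hij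
      rw [← mul_smul (z ^ _), hzcom, mul_smul, ← hij, ← mul_smul, ← mul_smul]
      congr 1
      group
    -- `w` is central modulo `K2`
    have hwcz : ∀ (d : ℤ) (g : P), w ^ d * g * (w ^ d)⁻¹ * g⁻¹ ∈ K2 := by
      intro d g
      have h1 : w ∈ (Subgroup.center (P ⧸ K2)).comap (QuotientGroup.mk' K2) := by
        rw [Subgroup.mem_comap, Subgroup.mem_center_iff]
        intro q
        obtain ⟨g, rfl⟩ := QuotientGroup.mk'_surjective K2 q
        have h2 := (QuotientGroup.eq_one_iff _).2 (hwc g)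
        rw [QuotientGroup.mk_mul, QuotientGroup.mk_mul, QuotientGroup.mk_mul, QuotientGroup.mk_inv,
          QuotientGroup.mk_inv, mul_inv_eq_one, mul_inv_eq_iff_eq_mul] at h2
        exact h2.symm
      have h2 := zpow_mem h1 d
      rw [Subgroup.mem_comap, Subgroup.mem_center_iff] at h2
      have h3 := h2 (QuotientGroup.mk' K2 g)
      rw [← QuotientGroup.eq_one_iff, QuotientGroup.mk_mul, QuotientGroup.mk_mul,
        QuotientGroup.mk_mul, QuotientGroup.mk_inv, QuotientGroup.mk_inv, mul_inv_eq_one,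
        mul_inv_eq_iff_eq_mul]
      exact h3.symm
    have hB1 : ∀ (d : ℤ) (g : P) (s : ℤ) (x : Ω), x ∈ D1 → g • x = z ^ s • x →
        ∃ s' : ℤ, g • w ^ d • x = z ^ s' • w ^ d • x := by
      intro d g s x hx h
      obtain ⟨m, hm⟩ := hK2b _ (hwcz (-d) g) (z ^ s • x) (inv1 _ _ hx)
      refine ⟨m + s, ?_⟩
      have e1 : g * w ^ d = w ^ d * (w ^ (-d) * g * (w ^ (-d))⁻¹ * g⁻¹) * g := by
        rw [zpow_neg]; group
      rw [← mul_smul, e1, mul_smul, h, mul_smul, hm, zpow_add, ← mul_smul, ← mul_smul, ← mul_smul]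
      congr 1
      rw [← hzcom m, mul_assoc, mul_assoc, ← hzcom s]
    -- some element fixes a point of `D1`
    have hcount : ∀ x ∈ D1, ∃ k : P, k ≠ 1 ∧ k • x = x := by
      intro x hx
      by_contra hcon
      push Not at hcon
      have h1 : Nat.card P ≤ Nat.card D1 := by
        apply Nat.card_le_card_of_injective (fun g : P => (⟨g • x, inv1 g x hx⟩ : D1))
        intro g g' h
        have h2 : g • x = g' • x := congrArg Subtype.val h
        by_contra hne
        apply hcon (g'⁻¹ * g)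
        · intro h3
          exact hne (inv_mul_eq_one.1 h3).symm
        · rw [mul_smul, h2, inv_smul_smul]
      have hsurj : Function.Surjective (fun g : P => (⟨g • b0, inv2 g b0 hb0⟩ : D2)) := by
        intro y
        obtain ⟨g, hg⟩ := tr2 b0 hb0 y.1 y.2
        exact ⟨g, Subtype.ext hg⟩
      have := Fintype.ofFinite P
      have := Fintype.ofFinite D2
      have h2 : Function.Bijective (fun g : P => (⟨g • b0, inv2 g b0 hb0⟩ : D2)) := by
        rw [Fintype.bijective_iff_surjective_and_card]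
        refine ⟨hsurj, ?_⟩
        rw [← Nat.card_eq_fintype_card, ← Nat.card_eq_fintype_card]
        apply le_antisymm
        · rw [card2, ← card1]; exact h1
        · exact Nat.card_le_card_of_surjective _ hsurj
      apply hz1
      apply h2.1
      apply Subtype.ext
      change z • b0 = (1 : P) • b0
      rw [hz2 b0 hb0, one_smul]
    have hG : ∀ (u : P) (x : Ω), (∀ k : P, k • x = x → k • u • x = u • x) → ∀ n : ℤ, ∀ k : P,
        k • x = x → k • u ^ n • x = u ^ n • x := by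
      intro u x hu
      have h1 : ∀ n : ℕ, ∀ k : P, k • x = x → k • u ^ n • x = u ^ n • x := by
        intro n
        induction n with
        | zero => intro k hk; rw [pow_zero, one_smul, hk]
        | succ n ih =>
          intro k hk
          have h2 : ((u ^ n)⁻¹ * k * u ^ n) • x = x := by
            rw [mul_smul, mul_smul, ih k hk, inv_smul_smul]
          have h3 := hu _ h2
          rw [← smul_left_cancel_iff (u ^ n), ← mul_smul, ← mul_smul, ← mul_smul] at h3
          rw [pow_succ, ← mul_smul, ← h3]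
          congr 1
          group
      intro n k hk
      obtain ⟨m, hm⟩ := ((isOfFinOrder_of_finite u).mem_powers_iff_mem_zpowers).2
        (⟨n, rfl⟩ : u ^ n ∈ Subgroup.zpowers u)
      have h2 : u ^ m = u ^ n := hm
      rw [← h2]
      exact h1 m k hk
    have hT : ∀ x ∈ D1, ∀ d : ℤ, ¬ (p : ℤ) ∣ d → ∃ k : P, k • x = x ∧ k • w ^ d • x ≠ w ^ d • x := by
      intro x hx d hd
      by_contra hcon
      push Not at hcon
      have h1 := hG (w ^ d) x hcon
      have hpi : Prime (p : ℤ) := Nat.prime_iff_prime_int.1 hp.out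
      obtain ⟨a, b, hab⟩ : IsCoprime (p : ℤ) d :=
        (Irreducible.coprime_iff_not_dvd hpi.irreducible).2 hd
      obtain ⟨m, hm⟩ := hK2b _ (zpow_mem hwp a) x hx
      have hwx : w • x = z ^ m • (w ^ d) ^ b • x := by
        have h2 : w = (w ^ d) ^ b * (w ^ p) ^ a := by
          rw [← zpow_natCast w p, ← zpow_mul, ← zpow_mul, ← zpow_add,
            show d * b + (p : ℤ) * a = a * p + b * d by ring, hab, zpow_one]
        conv_lhs => rw [h2]
        rw [mul_smul, hm, ← mul_smul, ← hzcom, mul_smul]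
      have h3 := hG w x (by
        intro k hk
        rw [hwx, ← mul_smul, ← hzcom, mul_smul, h1 b k hk])
      obtain ⟨k, hk1, hkx⟩ := hcount x hx
      apply hk1
      apply f1
      intro y hy
      obtain ⟨i, j, hij⟩ := hD1 x hx
      obtain ⟨i', j', hij'⟩ := hD1 y hy
      have hyx : y = z ^ ((j'.val : ℤ) - j.val) • w ^ ((i'.val : ℤ) - i.val) • x := by
        rw [hij', hij, ← mul_smul, ← mul_smul, ← mul_smul, ← mul_smul]
        congr 1
        simp only [mul_assoc]
        rw [hzcom]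
        simp only [mul_assoc]
        rw [← zpow_add, ← mul_assoc, ← zpow_add]
        congr 2 <;> ring
      rw [hyx, ← mul_smul, ← hzcom, mul_smul, h3 _ k hkx]
    have hzeq : ∀ a b : ℤ, (p : ℤ) ∣ a - b → z ^ a = z ^ b := by
      rintro a b ⟨c, hc⟩
      have h1 : a = b + p * c := by rw [← hc]; ring
      rw [h1, zpow_add, zpow_mul, zpow_natCast, hzp, one_zpow, mul_one]
    have hT' : ∀ x ∈ D1, ∀ d : ℤ, ¬ (p : ℤ) ∣ d → ∀ m m' : ℤ, ∃ k : P, k • x = z ^ m • x ∧
        k • w ^ d • x = z ^ m' • w ^ d • x := by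
      intro x hx d hd m m'
      obtain ⟨k0, hk0, hk0d⟩ := hT x hx d hd
      obtain ⟨s, hs⟩ := hB1 d k0 0 x hx (by rw [zpow_zero, one_smul, hk0])
      have hps : ¬ (p : ℤ) ∣ s := by
        intro h
        apply hk0d
        rw [hs, hzeq s 0 (by rwa [sub_zero]), zpow_zero, one_smul]
      have hpi : Prime (p : ℤ) := Nat.prime_iff_prime_int.1 hp.out
      obtain ⟨a, b, hab⟩ : IsCoprime (p : ℤ) s :=
        (Irreducible.coprime_iff_not_dvd hpi.irreducible).2 hps
      have h1 : ∀ n : ℤ, k0 ^ n • w ^ d • x = z ^ (s * n) • w ^ d • x := by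
        intro n
        have h2 : z ^ (-s) * k0 ∈ MulAction.stabilizer P (w ^ d • x) := by
          rw [MulAction.mem_stabilizer_iff, mul_smul, hs, zpow_neg, inv_smul_smul]
        have h3 := zpow_mem h2 n
        have h4 : Commute (z ^ (-s)) k0 := hzcom (-s) k0
        rw [h4.mul_zpow, MulAction.mem_stabilizer_iff, ← zpow_mul, neg_mul, zpow_neg, mul_smul,
          inv_smul_eq_iff] at h3
        exact h3
      have h2 : ∀ n : ℤ, k0 ^ n • x = x := fun n =>
        zpow_mem (show k0 ∈ MulAction.stabilizer P x from hk0) n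
      refine ⟨z ^ m * k0 ^ (b * (m' - m)), ?_, ?_⟩
      · rw [mul_smul, h2]
      · rw [mul_smul, h1, ← mul_smul, ← zpow_add]
        congr 1
        apply hzeq
        refine ⟨-(m' - m) * a, ?_⟩
        have : b * s = 1 - a * p := by rw [← hab]; ring
        linear_combination (m' - m) * this
    -- the new permutation on `D1`
    let E := Equiv.ofBijective e hebij
    let φ : Ω → Ω := fun x => if h : x ∈ D1 then
      (e ((E.symm ⟨x, h⟩).1 + 1, (E.symm ⟨x, h⟩).2)).1 else x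
    have hφ : ∀ i j, φ (e (i, j)).1 = (e (i + 1, j)).1 := by
      intro i j
      change dite _ _ _ = _
      rw [dif_pos (e (i, j)).2]
      have h1 : E.symm ⟨(e (i, j)).1, (e (i, j)).2⟩ = (i, j) := by
        rw [Equiv.symm_apply_eq]
        rfl
      rw [h1]
    have hex : ∀ x ∈ D1, ∃ i j, x = (e (i, j)).1 := by
      intro x hx
      obtain ⟨⟨i, j⟩, hij⟩ := hebij.2 ⟨x, hx⟩
      exact ⟨i, j, (congrArg Subtype.val hij).symm⟩
    have hstep : ∀ i, ∃ m : ℤ, ∀ j, (e (i + 1, j)).1 = z ^ m • w • (e (i, j)).1 := by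
      intro i
      obtain ⟨c, hc⟩ : (p : ℤ) ∣ ((i.val : ℤ) + 1) - ((i + 1).val : ℤ) := by
        rw [← ZMod.intCast_eq_intCast_iff_dvd_sub]
        push_cast
        rw [ZMod.natCast_zmod_val, ZMod.natCast_zmod_val]
      obtain ⟨m, hm⟩ := hK2b _ (zpow_mem hwp c) a0 ha0
      refine ⟨-m, fun j => ?_⟩
      change w ^ ((i + 1).val : ℤ) • z ^ (j.val : ℤ) • a0
        = z ^ (-m) • w • w ^ (i.val : ℤ) • z ^ (j.val : ℤ) • a0
      have e1 : w * w ^ (i.val : ℤ) = w ^ ((i + 1).val : ℤ) * (w ^ p) ^ c := by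
        rw [← zpow_natCast w p, ← zpow_mul, ← zpow_add, ← hc, ← zpow_one_add]
        congr 1
        ring
      have e2 : (w * w ^ (i.val : ℤ)) • z ^ (j.val : ℤ) • a0
          = z ^ m • w ^ ((i + 1).val : ℤ) • z ^ (j.val : ℤ) • a0 := by
        rw [e1, mul_smul, ← mul_smul ((w ^ p) ^ c), ← hzcom, mul_smul _ ((w ^ p) ^ c), hm,
          ← mul_smul, ← mul_smul, ← mul_smul, ← mul_smul]
        congr 1
        rw [mul_assoc, ← zpow_add, add_comm, zpow_add, ← mul_assoc, ← hzcom m, mul_assoc]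
      rw [← mul_smul w, e2, zpow_neg, inv_smul_smul]
    apply glue (P := P) hp0 hcov hdis φ (fun y => w • y)
    · intro x hx
      obtain ⟨i, j, rfl⟩ := hex x hx
      rw [hφ]
      exact (e (i + 1, j)).2
    · exact fun x hx => inv2 w x hx
    · intro x hx
      obtain ⟨i, j, rfl⟩ := hex x hx
      have h1 : ∀ n : ℕ, φ^[n] (e (i, j)).1 = (e (i + n, j)).1 := by
        intro n
        induction n with
        | zero => rw [Nat.cast_zero, add_zero]; rfl
        | succ n ih => rw [Function.iterate_succ_apply', ih, hφ, Nat.cast_succ, add_assoc]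
      rw [h1, ZMod.natCast_self, add_zero]
    · exact hwi
    · intro x hx h
      obtain ⟨i, j, rfl⟩ := hex x hx
      rw [hφ] at h
      have h1 := heinj (Subtype.ext h)
      have h2 : i + 1 = i := congrArg Prod.fst h1
      have h3 : (1 : ZMod p) = 0 := by
        have := sub_eq_zero.2 h2
        rwa [add_sub_cancel_left] at this
      exact one_ne_zero h3
    · exact hwf
    · intro x hx y hy
      obtain ⟨i, j, rfl⟩ := hex x hx
      obtain ⟨i', j', rfl⟩ := hex y hy
      rw [hφ, hφ]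
      obtain ⟨m, hm⟩ := hstep i
      by_cases hii : i = i'
      · subst hii
        exact ⟨z ^ m * w, by rw [hm, mul_smul], by rw [hm, mul_smul]⟩
      · obtain ⟨m', hm'⟩ := hstep i'
        have hd : ¬ (p : ℤ) ∣ (i'.val : ℤ) - i.val := fun h => hii (hval _ _ h).symm
        have hyx : w • (e (i', j')).1 = z ^ ((j'.val : ℤ) - j.val) • w ^ ((i'.val : ℤ) - i.val) •
            (w • (e (i, j)).1) := by
          change w • w ^ (i'.val : ℤ) • z ^ (j'.val : ℤ) • a0 = z ^ ((j'.val : ℤ) - j.val) •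
            w ^ ((i'.val : ℤ) - i.val) • w • w ^ (i.val : ℤ) • z ^ (j.val : ℤ) • a0
          rw [← mul_smul, ← mul_smul, ← mul_smul, ← mul_smul, ← mul_smul, ← mul_smul]
          congr 1
          simp only [mul_assoc]
          rw [hzcom]
          simp only [mul_assoc]
          rw [← zpow_add z, ← mul_assoc w, ← mul_assoc w, ← mul_assoc (w ^ _), ← zpow_one_add,
            ← zpow_one_add, ← zpow_add]
          congr 2 <;> ring
        obtain ⟨k, hk, hk'⟩ := hT' (w • (e (i, j)).1) (inv1 _ _ (e (i, j)).2) _ hd m m'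
        refine ⟨k * w, ?_, ?_⟩
        · rw [mul_smul, hk, hm]
        · rw [mul_smul, hyx, ← mul_smul k, ← hzcom, mul_smul, hk', ← mul_smul, hzcom, mul_smul,
            ← hyx, hm']
    · intro x hx y hy
      obtain ⟨i, j, rfl⟩ := hex x hx
      obtain ⟨m, hm⟩ := hstep i
      refine ⟨z ^ m * w, by rw [hφ, hm, mul_smul], ?_⟩
      rw [mul_smul, (zpow_mem hzK m : z ^ m ∈ K2) _ (inv2 w y hy)]
    · exact fun a _ b _ => ⟨w, rfl, rfl⟩


end Core

end Cfsg.Agent.H59
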